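import Cfsg.Agent.H886.FC.Base
set_option linter.all false

-- part: H886/FC/Comm
section
/-!
# S5764, classification: the lifts commute

`K[A^]` is commutative, every element satisfies `d ^ Q = d`: idempotents, or a field.
-/

set_option autoImplicit false

universe u v

namespace Cfsg.Agent.H886.FC

open Module Cfsg.Agent.H198.FC

section

variable {K : Type u} [Field K] {V : Type v} [AddCommGroup V] [Module K V]

theorem DA_comm {A : Subgroup (Equiv.Perm (R K V))} (h : ∀ X ∈ Lf A, ∀ Y ∈ Lf A, X * Y = Y * X)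
    {X Y : R K V} (hX : X ∈ DA A) (hY : Y ∈ DA A) : X * Y = Y * X := by
  have h1 : DA A ≤ Subalgebra.centralizer K (Lf A) := by
    apply Algebra.adjoin_le
    intro X hX
    exact Subalgebra.mem_centralizer_iff K |>.2 fun Y hY => h Y hY X hX
  have h2 : DA A ≤ Subalgebra.centralizer K (DA A : Set (R K V)) := by
    apply Algebra.adjoin_le
    intro X hX
    exact Subalgebra.mem_centralizer_iff K |>.2 fun Y hY =>
      ((Subalgebra.mem_centralizer_iff K).1 (h1 hY) X hX).symm
  exact ((Subalgebra.mem_centralizer_iff K).1 (h2 hY)) X hX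

/-- all elements of `K[A^]` satisfy `d ^ (q ^ m) = d` -/
theorem exists_Q [Finite K] {A : Subgroup (Equiv.Perm (R K V))} {r : ℕ} (hr : r.Prime)
    (hrK : (r : K) ≠ 0) (hAr : ∀ a ∈ A, a ^ r = 1)
    (h : ∀ X ∈ Lf A, ∀ Y ∈ Lf A, X * Y = Y * X) :
    ∃ Q : ℕ, 2 ≤ Q ∧ ∀ X ∈ DA A, X ^ Q = X := by
  have : Fintype K := Fintype.ofFinite K
  obtain ⟨p, hp⟩ := CharP.exists K
  obtain ⟨⟨k, hk0⟩, hpp, hk⟩ := FiniteField.card K p
  have : Fact p.Prime := ⟨hpp⟩
  set q := Fintype.card K with hq
  have hq1 : 1 < q := Fintype.one_lt_card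
  have hrq : Nat.Coprime q r := by
    rw [hk]
    apply Nat.Coprime.pow_left
    rw [Nat.coprime_primes hpp hr]
    rintro rfl
    exact hrK (CharP.cast_eq_zero K p)
  have hqq : Nat.Coprime q (q - 1) := by
    have := Nat.coprime_self_sub_right (m := 1) (n := q) hq1.le
    simpa using this
  have hco : Nat.Coprime q (r * (q - 1)) := Nat.Coprime.mul_right hrq hqq
  set N := r * (q - 1) with hN
  have hN0 : 0 < N := Nat.mul_pos hr.pos (by omega)
  set m := Nat.totient N with hm
  have hm0 : 0 < m := Nat.totient_pos.2 hN0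
  have hmod : q ^ m ≡ 1 [MOD N] := Nat.ModEq.pow_totient hco
  have hQ2 : 2 ≤ q ^ m := by
    calc 2 ≤ q := hq1
      _ = q ^ 1 := (pow_one q).symm
      _ ≤ q ^ m := Nat.pow_le_pow_right (by omega) hm0
  refine ⟨q ^ m, hQ2, ?_⟩
  have hlf : ∀ X ∈ Lf A, X ^ (q ^ m) = X := by
    rintro _ ⟨x, rfl, hx⟩
    have h1 : cj K V (x ^ r) = 1 := by rw [map_pow, hAr _ hx]
    obtain ⟨c, hc⟩ := cj_eq_one h1
    have h2 : ((x : R K V)) ^ N = 1 := by
      rw [hN, pow_mul, ← Units.val_pow_eq_pow_val, hc, smul_pow, one_pow]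
      by_cases hc0 : c = 0
      · rw [hc0, zero_smul] at hc
        have h3 : (x ^ r : (R K V)ˣ) * ((x ^ r)⁻¹ : (R K V)ˣ) = (1 : (R K V)ˣ) := mul_inv_cancel _
        have h4 := congrArg (fun u : (R K V)ˣ => (u : R K V)) h3
        simp only [Units.val_mul, hc, zero_mul, Units.val_one] at h4
        have : Subsingleton (R K V) := subsingleton_of_zero_eq_one h4
        exact Subsingleton.elim _ _
      · rw [FiniteField.pow_card_sub_one_eq_one c hc0, one_smul]
    obtain ⟨t, ht⟩ := (Nat.modEq_iff_dvd' (by omega)).1 hmod.symm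
    have h3 : q ^ m = N * t + 1 := by omega
    rw [h3, pow_succ, pow_mul, h2, one_pow, one_mul]
  intro X hX
  have hX' : X ∈ Submodule.span K (Lf A) := by
    rw [← DA_eq_span]
    exact hX
  have hsub : ∀ Y ∈ Submodule.span K (Lf A), Y ∈ DA A := fun Y hY => by
    rw [← DA_eq_span] at hY
    exact hY
  by_cases hnt : Nontrivial (R K V)
  · have : CharP (R K V) p := charP_of_injective_algebraMap (algebraMap K (R K V)).injective p
    induction hX' using Submodule.span_induction with
    | mem Y hY => exact hlf Y hY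
    | zero => exact zero_pow (by positivity)
    | add Y Z hY hZ ihY ihZ =>
      have hc : Commute Y Z := DA_comm h (hsub Y hY) (hsub Z hZ)
      have h4 : q ^ m = p ^ (k * m) := by rw [hk, pow_mul]; rfl
      rw [h4] at ihY ihZ ⊢
      rw [add_pow_char_pow_of_commute p (k * m) hc, ihY (hsub Y hY), ihZ (hsub Z hZ)]
    | smul c Y hY ih =>
      rw [smul_pow, ih (hsub Y hY), FiniteField.pow_card_pow]
  · rw [not_nontrivial_iff_subsingleton] at hnt
    exact Subsingleton.elim _ _

/-! ### primitive idempotents -/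

/-- the primitive idempotents of `K[A^]` -/
def Prim (A : Subgroup (Equiv.Perm (R K V))) : Set (R K V) :=
  {e | e ∈ DA A ∧ e * e = e ∧ e ≠ 0 ∧ ∀ g ∈ DA A, g * g = g → g * e = g → g = 0 ∨ g = e}

variable {A : Subgroup (Equiv.Perm (R K V))}

theorem prim_ortho (hc : ∀ X ∈ Lf A, ∀ Y ∈ Lf A, X * Y = Y * X) {e e' : R K V} (he : e ∈ Prim A)
    (he' : e' ∈ Prim A) (hne : e ≠ e') : e * e' = 0 := by
  have hcm : e * e' = e' * e := DA_comm hc he.1 he'.1
  have h1 : (e * e') * (e * e') = e * e' := by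
    calc (e * e') * (e * e') = e * (e' * e) * e' := by simp only [mul_assoc]
      _ = e * (e * e') * e' := by rw [hcm]
      _ = (e * e) * (e' * e') := by simp only [mul_assoc]
      _ = e * e' := by rw [he.2.1, he'.2.1]
  have h2 : (e * e') * e = e * e' := by
    rw [hcm, mul_assoc, he.2.1]
  have h3 : (e * e') * e' = e * e' := by rw [mul_assoc, he'.2.1]
  rcases he.2.2.2 _ ((DA A).mul_mem he.1 he'.1) h1 h2 with h | h
  · exact h
  · rcases he'.2.2.2 _ ((DA A).mul_mem he.1 he'.1) h1 h3 with h' | h'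
    · exact h'
    · exact absurd (h.symm.trans h') hne

theorem prim_map (hc : ∀ X ∈ Lf A, ∀ Y ∈ Lf A, X * Y = Y * X) {f : Equiv.Perm (R K V)}
    (hf : f ∈ RA K V) (hfA : ∀ a ∈ A, f * a * f⁻¹ ∈ A) (hfA' : ∀ a ∈ A, f⁻¹ * a * f⁻¹⁻¹ ∈ A)
    {e : R K V} (he : e ∈ Prim A) : f e ∈ Prim A := by
  have hf' : f⁻¹ ∈ RA K V := inv_mem hf
  have hff : ∀ X, f⁻¹ (f X) = X := fun X => f.symm_apply_apply X
  have hff' : ∀ X, f (f⁻¹ X) = X := fun X => f.apply_symm_apply X
  refine ⟨map_DA hf hfA he.1, ?_, ?_, ?_⟩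
  · rw [← ra_mul_of_comm hf rfl, he.2.1]
  · intro h
    apply he.2.2.1
    apply f.injective
    rw [h, ra_zero hf]
  · intro g hg hgg hge
    have h1 : f⁻¹ g ∈ DA A := map_DA hf' hfA' hg
    have h2 : f⁻¹ g * f⁻¹ g = f⁻¹ g := by rw [← ra_mul_of_comm hf' rfl, hgg]
    have h3 : f⁻¹ g * e = f⁻¹ g := by
      have h4 : g * f e = f e * g := DA_comm hc hg (map_DA hf hfA he.1)
      have h5 := ra_mul_of_comm hf' h4
      rw [hge, hff] at h5
      exact h5.symm
    rcases he.2.2.2 _ h1 h2 h3 with h | h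
    · left
      rw [← hff' g, h, ra_zero hf]
    · right
      rw [← hff' g, h]

theorem exists_prim [FiniteDimensional K V] (hc : ∀ X ∈ Lf A, ∀ Y ∈ Lf A, X * Y = Y * X)
    (n : ℕ) : ∀ g : R K V, finrank K (LinearMap.range g) = n → g ∈ DA A → g * g = g → g ≠ 0 →
      ∃ e ∈ Prim A, e * g = e := by
  induction n using Nat.strong_induction_on with
  | _ n ih =>
    intro g hgn hg hgg hg0
    by_cases hp : ∀ e ∈ DA A, e * e = e → e * g = e → e = 0 ∨ e = g
    · exact ⟨g, ⟨hg, hgg, hg0, hp⟩, hgg⟩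
    push Not at hp
    obtain ⟨e, he, hee, heg, he0, hne⟩ := hp
    have hcm : e * g = g * e := DA_comm hc he hg
    have hge : g * e = e := by rw [← hcm, heg]
    have hle : LinearMap.range e ≤ LinearMap.range g := by
      rintro _ ⟨v, rfl⟩
      exact ⟨e v, by rw [← Module.End.mul_apply, hge]⟩
    have hlt : finrank K (LinearMap.range e) < finrank K (LinearMap.range g) := by
      rcases lt_or_eq_of_le (Submodule.finrank_mono hle) with h | h
      · exact h
      · exfalso
        apply hne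
        have h1 := Submodule.eq_of_le_of_finrank_eq hle h
        have h2 : e * g = g := by
          ext v
          have h3 : g v ∈ LinearMap.range e := by rw [h1]; exact ⟨v, rfl⟩
          obtain ⟨w, hw⟩ := h3
          rw [Module.End.mul_apply, ← hw, ← Module.End.mul_apply, hee]
        rw [← heg, h2]
    obtain ⟨e', he', h'⟩ := ih _ (by omega) e rfl he hee he0
    exact ⟨e', he', by rw [← h', mul_assoc, heg]⟩

/-- the finite set of primitive idempotents -/
theorem exists_finset [Finite K] [FiniteDimensional K V]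
    (hc : ∀ X ∈ Lf A, ∀ Y ∈ Lf A, X * Y = Y * X) :
    ∃ P : Finset (R K V), (∀ e, e ∈ P ↔ e ∈ Prim A) ∧ ∑ e ∈ P, e = 1 := by
  classical
  have : Finite V := Module.finite_of_finite K
  have : Finite (R K V) := Module.finite_of_finite K
  have hfin : (Prim A).Finite := Set.toFinite _
  refine ⟨hfin.toFinset, fun e => hfin.mem_toFinset, ?_⟩
  set s := ∑ e ∈ hfin.toFinset, e with hs
  have hmem : s ∈ DA A := (DA A).sum_mem fun e he => ((hfin.mem_toFinset).1 he).1
  have hes : ∀ e ∈ Prim A, e * s = e := by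
    intro e he
    rw [hs, Finset.mul_sum, Finset.sum_eq_single e]
    · exact he.2.1
    · intro g hg hge
      exact prim_ortho hc he ((hfin.mem_toFinset).1 hg) hge.symm
    · intro h
      exact absurd ((hfin.mem_toFinset).2 he) h
  have hss : s * s = s := by
    conv_lhs => rw [hs, Finset.sum_mul]
    exact Finset.sum_congr rfl fun e he => hes e ((hfin.mem_toFinset).1 he)
  by_contra hne
  have h1 : (1 - s) * (1 - s) = 1 - s := by
    rw [mul_sub, mul_one, sub_mul, one_mul, hss]
    abel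
  obtain ⟨e, he, h2⟩ := exists_prim hc _ (1 - s) rfl ((DA A).sub_mem (DA A).one_mem hmem) h1
    (fun h => hne (sub_eq_zero.1 h).symm)
  rw [mul_sub, mul_one, hes e he, sub_self] at h2
  exact he.2.2.1 h2.symm

/-- the field case -/
theorem isField_DA [FiniteDimensional K V] [Nontrivial V]
    (hc : ∀ X ∈ Lf A, ∀ Y ∈ Lf A, X * Y = Y * X) {Q : ℕ} (hQ : 2 ≤ Q)
    (hQd : ∀ X ∈ DA A, X ^ Q = X) (h1 : ∀ e ∈ Prim A, e = 1) : IsField (DA A) := by
  refine ⟨⟨0, 1, fun h => ?_⟩, fun x y => Subtype.ext (DA_comm hc x.2 y.2), fun {a} ha => ?_⟩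
  · have : (0 : R K V) = 1 := congrArg Subtype.val h
    exact zero_ne_one this
  · have ha' : (a : R K V) ≠ 0 := fun h => ha (Subtype.ext h)
    obtain ⟨t, rfl⟩ : ∃ t, Q = t + 2 := ⟨Q - 2, by omega⟩
    have hx := hQd a a.2
    set x : R K V := (a : R K V) with hxdef
    have e1 : x ^ (t + 1) * x ^ (t + 1) = x ^ (t + 1) := by
      calc x ^ (t + 1) * x ^ (t + 1) = x ^ (t + 2) * x ^ t := by
            rw [← pow_add, ← pow_add]; congr 1; ring
        _ = x ^ (t + 1) := by rw [hx, ← pow_succ']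
    have e2 : x ^ (t + 1) ≠ 0 := by
      intro h
      apply ha'
      rw [← hx, pow_succ, h, zero_mul]
    obtain ⟨e, he, h2⟩ := exists_prim hc _ (x ^ (t + 1)) rfl ((DA A).pow_mem a.2 _) e1 e2
    rw [h1 e he, one_mul] at h2
    refine ⟨⟨x ^ t, (DA A).pow_mem a.2 t⟩, Subtype.ext ?_⟩
    show x * x ^ t = 1
    rw [← pow_succ', h2]

/-- the subfield of prime degree, stable under all elements of `RA` which stabilize `E` -/
theorem exists_sub [Finite K] [FiniteDimensional K V] (E : Subalgebra K (R K V)) (hE : IsField E)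
    (hbot : E ≠ ⊥) : ∃ E' : Subalgebra K (R K V), IsField E' ∧ (finrank K E').Prime ∧
      ∀ f : Equiv.Perm (R K V), f ∈ RA K V → (∀ X ∈ E, f X ∈ E) → ∀ X ∈ E', f X ∈ E' := by
  classical
  let iE : Field E := hE.toField
  have : Fintype K := Fintype.ofFinite K
  have : Finite (R K V) := Module.finite_of_finite K
  have : Finite E := inferInstance
  have : Fintype E := Fintype.ofFinite E
  obtain ⟨p, hp⟩ := CharP.exists K
  obtain ⟨⟨k, hk0⟩, hpp, hk⟩ := FiniteField.card K p
  have : Fact p.Prime := ⟨hpp⟩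
  have : CharP E p := charP_of_injective_algebraMap (algebraMap K E).injective p
  have hq1 : 1 < Fintype.card K := Fintype.one_lt_card
  set q := Fintype.card K with hq
  set m := finrank K E with hm
  have hcard : Fintype.card E = q ^ m := Module.card_eq_pow_finrank
  have hm1 : m ≠ 1 := by
    intro h
    apply hbot
    exact Subalgebra.eq_bot_of_finrank_one h
  have hm0 : m ≠ 0 := by
    intro h
    rw [h, pow_zero] at hcard
    have : 1 < Fintype.card E := Fintype.one_lt_card
    omega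
  obtain ⟨l, hl, hlm⟩ := Nat.exists_prime_and_dvd hm1
  have hql : 1 < q ^ l := Nat.one_lt_pow hl.ne_zero hq1
  have hpl : q ^ l = p ^ (k * l) := by rw [hk, pow_mul]; rfl
  have hEc : ∀ X ∈ E, ∀ Y ∈ E, X * Y = Y * X := fun X hX Y hY =>
    congrArg Subtype.val (hE.mul_comm ⟨X, hX⟩ ⟨Y, hY⟩)
  have hadd : ∀ x y : E, (x + y) ^ (q ^ l) = x ^ (q ^ l) + y ^ (q ^ l) := by
    intro x y
    rw [hpl, add_pow_char_pow]
  -- the fixed elements of the `q ^ l`-power map
  let E' : Subalgebra K (R K V) :=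
    { carrier := {X | X ∈ E ∧ X ^ (q ^ l) = X}
      mul_mem' := by
        rintro X Y ⟨hX, hX'⟩ ⟨hY, hY'⟩
        refine ⟨E.mul_mem hX hY, ?_⟩
        rw [(show Commute X Y from hEc X hX Y hY).mul_pow, hX', hY']
      add_mem' := by
        rintro X Y ⟨hX, hX'⟩ ⟨hY, hY'⟩
        refine ⟨E.add_mem hX hY, ?_⟩
        have := congrArg Subtype.val (hadd ⟨X, hX⟩ ⟨Y, hY⟩)
        simpa [hX', hY'] using this
      algebraMap_mem' := by
        intro c
        refine ⟨E.algebraMap_mem c, ?_⟩
        rw [← map_pow, FiniteField.pow_card_pow] }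
  have hmem : ∀ X, X ∈ E' ↔ X ∈ E ∧ X ^ (q ^ l) = X := fun X => Iff.rfl
  have hE'card : Nat.card E' = q ^ l := by
    -- `E'` is `0` and the kernel of the `q ^ l - 1`-power map
    have h1 : Nat.card (powMonoidHom (q ^ l - 1) : Eˣ →* Eˣ).ker = q ^ l - 1 := by
      rw [IsCyclic.card_powMonoidHom_ker, Nat.card_units, Nat.card_eq_fintype_card, hcard]
      apply Nat.gcd_eq_right
      obtain ⟨t, ht⟩ := hlm
      rw [ht, pow_mul]
      have := Nat.sub_dvd_pow_sub_pow (q ^ l) 1 t
      rwa [one_pow] at this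
    have hu : ∀ u : Eˣ, u ^ (q ^ l - 1) = 1 → (u : E) ^ (q ^ l) = (u : E) := by
      intro u h3
      have h5 : q ^ l = (q ^ l - 1) + 1 := by omega
      rw [h5, pow_succ, ← Units.val_pow_eq_pow_val, h3, Units.val_one, one_mul]
    have h2 : Nat.card E' = Nat.card (Option (powMonoidHom (q ^ l - 1) : Eˣ →* Eˣ).ker) := by
      symm
      refine Nat.card_eq_of_bijective (fun o => match o with
        | none => (⟨0, by rw [hmem]; exact ⟨E.zero_mem, zero_pow (by omega)⟩⟩ : E')
        | some u => ⟨((u : Eˣ) : E), by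
            rw [hmem]
            refine ⟨((u : Eˣ) : E).2, ?_⟩
            exact congrArg (fun z : E => (z : R K V)) (hu (u : Eˣ) u.2)⟩) ⟨?_, ?_⟩
      · rintro (_ | u) (_ | w) h
        · rfl
        · exfalso
          have h3 := congrArg (fun z : E' => (z : R K V)) h
          have h4 : ((w : Eˣ) : E) = 0 := Subtype.ext h3.symm
          exact (w : Eˣ).ne_zero h4
        · exfalso
          have h3 := congrArg (fun z : E' => (z : R K V)) h
          have h4 : ((u : Eˣ) : E) = 0 := Subtype.ext h3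
          exact (u : Eˣ).ne_zero h4
        · have h3 := congrArg (fun z : E' => (z : R K V)) h
          have h4 : ((u : Eˣ) : E) = ((w : Eˣ) : E) := Subtype.ext h3
          rw [Subtype.ext (Units.ext h4)]
      · rintro ⟨X, hX⟩
        obtain ⟨hX1, hX2⟩ := (hmem X).1 hX
        by_cases h0 : X = 0
        · subst h0
          exact ⟨none, rfl⟩
        · have h3 : (⟨X, hX1⟩ : E) ≠ 0 := fun h => h0 (congrArg Subtype.val h)
          have h4 : (Units.mk0 (⟨X, hX1⟩ : E) h3) ^ (q ^ l - 1) = 1 := by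
            apply Units.ext
            rw [Units.val_pow_eq_pow_val, Units.val_mk0, Units.val_one]
            have h5 : (⟨X, hX1⟩ : E) ^ (q ^ l) = ⟨X, hX1⟩ := Subtype.ext hX2
            have h6 : q ^ l = (q ^ l - 1) + 1 := by omega
            rw [h6, pow_succ] at h5
            exact mul_right_cancel₀ h3 (h5.trans (one_mul _).symm)
          exact ⟨some ⟨Units.mk0 ⟨X, hX1⟩ h3, h4⟩, rfl⟩
    rw [h2, Finite.card_option, h1]
    omega
  refine ⟨E', ?_, ?_, ?_⟩
  · refine ⟨⟨0, 1, fun h => ?_⟩, fun x y => Subtype.ext (hEc x x.2.1 y y.2.1), fun {a} ha => ?_⟩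
    · have h0 : (0 : E) = 1 := Subtype.ext (congrArg (fun z : E' => (z : R K V)) h)
      exact zero_ne_one h0
    · have h3 : (⟨a, a.2.1⟩ : E) ≠ 0 := fun h =>
        ha (Subtype.ext (congrArg (fun z : E => (z : R K V)) h))
      refine ⟨⟨(((⟨a, a.2.1⟩ : E)⁻¹ : E) : R K V), (hmem _).2 ⟨((⟨a, a.2.1⟩ : E)⁻¹ : E).2, ?_⟩⟩, ?_⟩
      · have h4 : ((⟨a, a.2.1⟩ : E)⁻¹ : E) ^ (q ^ l) = (⟨a, a.2.1⟩ : E)⁻¹ := by
          rw [inv_pow]
          congr 1
          exact Subtype.ext a.2.2
        exact congrArg (fun z : E => (z : R K V)) h4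
      · apply Subtype.ext
        exact congrArg (fun z : E => (z : R K V)) (mul_inv_cancel₀ h3)
  · have : Finite E' := inferInstance
    rw [Module.natCard_eq_pow_finrank (K := K) (V := E'), Nat.card_eq_fintype_card] at hE'card
    rw [Nat.pow_right_injective hq1 hE'card]
    exact hl
  · intro f hf hfE X hX
    obtain ⟨h1, h2⟩ := (hmem X).1 hX
    exact (hmem _).2 ⟨hfE X h1, by rw [← ra_pow hf, h2]⟩

end

end Cfsg.Agent.H886.FC
end

-- part: H886/FC/Quat
section
/-!
# S5764, classification: the lifts do not commute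

`K[A^]` is a central simple algebra, `K[A^] ≅ M_u(K)`, `u² = |A|`, `V = K^u ⊗ K^y`.
-/

set_option autoImplicit false
set_option linter.unusedSectionVars false

universe u v

namespace Cfsg.Agent.H886.FC

open Module Cfsg.Agent.H198.FC

section

variable {K : Type u} [Field K] {V : Type v} [AddCommGroup V] [Module K V]

/-! ### matrix algebras acting on `V` -/

/-- a matrix algebra acting on `V` -/
theorem exists_tensor [FiniteDimensional K V] (m : ℕ) (i0 : Fin m)
    (ψ : Matrix (Fin m) (Fin m) K →ₐ[K] R K V) :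
    ∃ (y : ℕ) (Φ : Matrix (Fin m × Fin y) (Fin m × Fin y) K ≃ₐ[K] R K V),
      (∀ B : Matrix (Fin m) (Fin m) K,
        Φ (Matrix.kroneckerMap (· * ·) B (1 : Matrix (Fin y) (Fin y) K)) = ψ B) ∧
      finrank K V = m * y := by
  classical
  let E : Fin m → Fin m → R K V := fun i j => ψ (Matrix.single i j 1)
  have hE : ∀ i j, E i j = ψ (Matrix.single i j 1) := fun i j => rfl
  have hEE : ∀ i j k, E i j * E j k = E i k := by
    intro i j k
    rw [hE, hE, hE, ← map_mul, Matrix.single_mul_single_same, mul_one]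
  have hE0 : ∀ i j k l, j ≠ k → E i j * E k l = 0 := by
    intro i j k l h
    rw [hE, hE, ← map_mul, Matrix.single_mul_single_of_ne _ _ _ _ h, map_zero]
  have hsum : ∑ i, E i i = 1 := by
    rw [← map_one ψ]
    have : (1 : Matrix (Fin m) (Fin m) K) = ∑ i, Matrix.single i i 1 :=
      (Matrix.sum_single_one).symm
    rw [this, map_sum]
  let W := LinearMap.range (E i0 i0)
  let y := finrank K W
  let w : Basis (Fin y) K W := finBasis K W
  have hW : ∀ i v, E i0 i v ∈ W := fun i v => ⟨E i0 i v, by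
    rw [← Module.End.mul_apply, hEE]⟩
  have hWfix : ∀ x : W, E i0 i0 (x : V) = x := by
    rintro ⟨_, v, rfl⟩
    show E i0 i0 (E i0 i0 v) = E i0 i0 v
    rw [← Module.End.mul_apply, hEE]
  let pr : Fin m → V →ₗ[K] W := fun i => LinearMap.codRestrict W (E i0 i) (hW i)
  have hpr : ∀ i v, (pr i v : V) = E i0 i v := fun i v => rfl
  -- the linear equivalence
  let e : V ≃ₗ[K] (Fin m × Fin y → K) :=
    { toFun := fun v ij => w.repr (pr ij.1 v) ij.2
      invFun := fun c => ∑ i, E i i0 (∑ j, c (i, j) • (w j : W) : W)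
      map_add' := fun v v' => by
        funext ij
        simp only [map_add, Finsupp.add_apply, Pi.add_apply]
      map_smul' := fun a v => by
        funext ij
        simp only [map_smul, Finsupp.smul_apply, Pi.smul_apply, RingHom.id_apply]
      left_inv := fun v => by
        show ∑ i, E i i0 (∑ j, (w.repr (pr i v) j) • (w j : W) : W) = v
        have h1 : ∀ i, (∑ j, (w.repr (pr i v) j) • (w j : W) : W) = pr i v := fun i =>
          w.sum_repr _
        simp only [h1, hpr]
        have h2 : ∀ i, E i i0 (E i0 i v) = E i i v := fun i => by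
          rw [← Module.End.mul_apply, hEE]
        simp only [h2]
        have := LinearMap.congr_fun hsum v
        rw [LinearMap.sum_apply] at this
        exact this
      right_inv := fun c => by
        funext ij
        obtain ⟨i, j⟩ := ij
        show w.repr (pr i (∑ i', E i' i0 (∑ j, c (i', j) • (w j : W) : W))) j = c (i, j)
        have h1 : pr i (∑ i', E i' i0 (∑ j, c (i', j) • (w j : W) : W)) =
            (∑ j, c (i, j) • (w j : W) : W) := by
          apply Subtype.ext
          rw [hpr, map_sum, Finset.sum_eq_single i]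
          · rw [← Module.End.mul_apply, hEE, hWfix]
          · intro i' _ hi'
            rw [← Module.End.mul_apply, hE0 _ _ _ _ hi'.symm]
            rfl
          · intro h
            exact absurd (Finset.mem_univ i) h
        rw [h1, map_sum, Finsupp.finsetSum_apply]
        simp [Finsupp.single_apply] }
  have he : ∀ v i j, e v (i, j) = w.repr (pr i v) j := fun v i j => rfl
  let Φ : Matrix (Fin m × Fin y) (Fin m × Fin y) K ≃ₐ[K] R K V :=
    Matrix.toLinAlgEquiv'.trans (e.symm.conjAlgEquiv K)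
  refine ⟨y, Φ, ?_, ?_⟩
  · intro B
    apply LinearMap.ext
    intro v
    show e.symm (Matrix.toLin' (Matrix.kroneckerMap (· * ·) B (1 : Matrix (Fin y) (Fin y) K)) (e v)) =
      ψ B v
    rw [LinearEquiv.symm_apply_eq]
    funext ij
    obtain ⟨i, j⟩ := ij
    rw [he, Matrix.toLin'_apply, Matrix.mulVec, dotProduct, Fintype.sum_prod_type]
    have h1 : ∀ i', ∑ j', Matrix.kroneckerMap (· * ·) B (1 : Matrix (Fin y) (Fin y) K) (i, j)
        (i', j') * e v (i', j') = B i i' * e v (i', j) := by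
      intro i'
      rw [Finset.sum_eq_single j]
      · rw [Matrix.kroneckerMap_apply, Matrix.one_apply_eq, mul_one]
      · intro j' _ hj'
        rw [Matrix.kroneckerMap_apply, Matrix.one_apply_ne hj'.symm, mul_zero, zero_mul]
      · intro h
        exact absurd (Finset.mem_univ j) h
    rw [Finset.sum_congr rfl fun i' _ => h1 i']
    have h2 : E i0 i * ψ B = ∑ i', B i i' • E i0 i' := by
      have h3 : Matrix.single i0 i (1 : K) * B = ∑ i', B i i' • Matrix.single i0 i' (1 : K) := by
        ext a b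
        rw [Matrix.sum_apply]
        by_cases ha : a = i0
        · subst ha
          rw [Matrix.single_mul_apply_same]
          simp [Matrix.single_apply]
        · rw [Matrix.single_mul_apply_of_ne _ _ _ _ _ ha]
          symm
          apply Finset.sum_eq_zero
          intro i' _
          simp [Ne.symm ha]
      rw [hE, ← map_mul, h3, map_sum]
      exact Finset.sum_congr rfl fun i' _ => by rw [map_smul]
    have h4 : pr i (ψ B v) = ∑ i', B i i' • pr i' v := by
      apply Subtype.ext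
      rw [hpr, ← Module.End.mul_apply, h2, LinearMap.sum_apply, Submodule.coe_sum]
      exact Finset.sum_congr rfl fun i' _ => rfl
    rw [h4, map_sum, Finsupp.finsetSum_apply]
    exact (Finset.sum_congr rfl fun i' _ => by rw [map_smul]; rfl)
  · rw [LinearEquiv.finrank_eq e, Module.finrank_fintype_fun_eq_card, Fintype.card_prod,
      Fintype.card_fin, Fintype.card_fin]

/-! ### the algebra `K[A^]` -/

section NC

variable [Nontrivial V] {A : Subgroup (Equiv.Perm (R K V))} (lam : A → (R K V)ˣ)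
  (hlam : ∀ a : A, cj K V (lam a) = a) (hab : ∀ a ∈ A, ∀ b ∈ A, a * b = b * a)
  (hrad : ∀ x : (R K V)ˣ, cj K V x ∈ A → (∀ Y ∈ Lf A, (x : R K V) * Y = Y * x) → cj K V x = 1)

theorem unit_smul_ne {x : (R K V)ˣ} {c : K} (h : c • (x : R K V) = 0) : c = 0 := by
  by_contra hc
  have h1 : (x : R K V) = 0 := (smul_eq_zero.1 h).resolve_left hc
  have h2 : (x : R K V) * (x⁻¹ : (R K V)ˣ) = 1 := x.mul_inv
  rw [h1, zero_mul] at h2
  exact zero_ne_one h2

include hlam in
/-- lifts of the same element differ by a scalar -/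
theorem lift_eq {x : (R K V)ˣ} (hx : cj K V x ∈ A) : ∃ c : K, (x : R K V) = c • (lam ⟨_, hx⟩ : R K V) := by
  have h1 : cj K V (x * (lam ⟨_, hx⟩)⁻¹) = 1 := by
    rw [map_mul, map_inv, hlam, mul_inv_cancel]
  obtain ⟨c, hc⟩ := cj_eq_one h1
  refine ⟨c, ?_⟩
  have h2 : (x : R K V) = ((x * (lam ⟨_, hx⟩)⁻¹ : (R K V)ˣ) : R K V) * (lam ⟨_, hx⟩ : R K V) := by
    rw [Units.val_mul, mul_assoc, Units.inv_mul, mul_one]
  rw [h2, hc, smul_mul_assoc, one_mul]

include hlam hab in
/-- the commutator scalars -/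
theorem exists_chi : ∃ χ : A → A → K, ∀ a b : A,
    (lam b : R K V) * lam a = χ b a • ((lam a : R K V) * lam b) := by
  have h : ∀ a b : A, ∃ c : K, (lam b : R K V) * lam a = c • ((lam a : R K V) * lam b) := by
    intro a b
    have h1 : cj K V ((lam b * lam a) * (lam a * lam b)⁻¹) = 1 := by
      rw [map_mul, map_inv, map_mul, map_mul, hlam, hlam, hab b b.2 a a.2, mul_inv_cancel]
    obtain ⟨c, hc⟩ := cj_eq_one h1
    refine ⟨c, ?_⟩
    have h2 : ((lam b * lam a : (R K V)ˣ) : R K V) =
        (((lam b * lam a) * (lam a * lam b)⁻¹ : (R K V)ˣ) : R K V) *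
          ((lam a * lam b : (R K V)ˣ) : R K V) := by
      rw [← Units.val_mul, inv_mul_cancel_right]
    rw [hc, smul_mul_assoc, one_mul, Units.val_mul, Units.val_mul] at h2
    exact h2
  choose f hf using h
  exact ⟨fun b a => f a b, fun a b => hf a b⟩

variable (χ : A → A → K) (hχ : ∀ a b : A, (lam b : R K V) * lam a = χ b a • ((lam a : R K V) * lam b))

include hχ in
/-- conjugation by a lift -/
theorem conj_lift (a b : A) : (lam b : R K V) * lam a * ((lam b)⁻¹ : (R K V)ˣ) =
    χ b a • (lam a : R K V) := by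
  rw [hχ, smul_mul_assoc, mul_assoc, Units.mul_inv, mul_one]

include hlam hab hrad hχ in
/-- the characters separate the elements of `A` -/
theorem chi_sep {a a' : A} (h : ∀ b : A, χ b a = χ b a') : a = a' := by
  have h1 : cj K V ((lam a)⁻¹ * lam a') = 1 := by
    apply hrad
    · rw [map_mul, map_inv, hlam, hlam]
      exact A.mul_mem (A.inv_mem a.2) a'.2
    · rintro _ ⟨y, rfl, hy⟩
      obtain ⟨c, hc⟩ := lift_eq lam hlam hy
      set b : A := ⟨_, hy⟩
      have h2 : (lam b : R K V) * ((lam a)⁻¹ * lam a' : (R K V)ˣ) =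
          ((lam a)⁻¹ * lam a' : (R K V)ˣ) * lam b := by
        have hne : χ b a' ≠ 0 := by
          intro h0
          have h3 := hχ a' b
          rw [h0, zero_smul, ← Units.val_mul] at h3
          have h4 : ((lam b * lam a' : (R K V)ˣ) : R K V) * ((lam b * lam a')⁻¹ : (R K V)ˣ) = 1 :=
            Units.mul_inv _
          rw [h3, zero_mul] at h4
          exact zero_ne_one h4
        -- `lam b (lam a)⁻¹ = χ⁻¹ (lam a)⁻¹ lam b`
        have h5 : χ b a • ((lam b : R K V) * ((lam a)⁻¹ : (R K V)ˣ)) =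
            ((lam a)⁻¹ : (R K V)ˣ) * (lam b : R K V) := by
          calc χ b a • ((lam b : R K V) * ((lam a)⁻¹ : (R K V)ˣ))
              = ((lam a)⁻¹ : (R K V)ˣ) * (χ b a • ((lam a : R K V) * lam b)) *
                  ((lam a)⁻¹ : (R K V)ˣ) := by
                rw [mul_smul_comm, ← mul_assoc, Units.inv_mul, one_mul, smul_mul_assoc]
            _ = ((lam a)⁻¹ : (R K V)ˣ) * ((lam b : R K V) * lam a) * ((lam a)⁻¹ : (R K V)ˣ) := by
                rw [hχ a b]
            _ = ((lam a)⁻¹ : (R K V)ˣ) * (lam b : R K V) := by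
                rw [mul_assoc, mul_assoc, Units.mul_inv, mul_one]
        rw [h] at h5
        apply smul_right_injective (R K V) hne
        show χ b a' • _ = χ b a' • _
        rw [Units.val_mul, ← mul_assoc, ← smul_mul_assoc, h5, mul_assoc, hχ, mul_smul_comm, mul_assoc]
      rw [hc, smul_mul_assoc, mul_smul_comm, h2]
  rw [map_mul, map_inv, hlam, hlam] at h1
  exact Subtype.ext (inv_mul_eq_one.1 h1)

include hlam hab hrad hχ in
theorem lam_indep : LinearIndependent K (fun a : A => (lam a : R K V)) := by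
  classical
  rw [linearIndependent_iff']
  intro s
  induction s using Finset.induction_on with
  | empty => intro g _ i hi; simp at hi
  | insert a0 s ha0 ih =>
    intro g hg
    have h1 : ∀ b : A, ∑ a ∈ s, (g a * (χ b a - χ b a0)) • (lam a : R K V) = 0 := by
      intro b
      have h2 : (lam b : R K V) * (∑ a ∈ insert a0 s, g a • (lam a : R K V)) *
          ((lam b)⁻¹ : (R K V)ˣ) - χ b a0 • (∑ a ∈ insert a0 s, g a • (lam a : R K V)) = 0 := by
        rw [hg, mul_zero, zero_mul, smul_zero, sub_zero]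
      rw [Finset.mul_sum, Finset.sum_mul, Finset.smul_sum, ← Finset.sum_sub_distrib,
        Finset.sum_insert ha0] at h2
      have h3 : ∀ a, (lam b : R K V) * (g a • (lam a : R K V)) * ((lam b)⁻¹ : (R K V)ˣ) -
          χ b a0 • (g a • (lam a : R K V)) = (g a * (χ b a - χ b a0)) • (lam a : R K V) := by
        intro a
        rw [mul_smul_comm, smul_mul_assoc, conj_lift lam χ hχ, smul_smul, smul_smul, ← sub_smul]
        congr 1
        ring
      simp only [h3, sub_self, mul_zero, zero_smul, zero_add] at h2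
      exact h2
    have h4 : ∀ a ∈ s, g a = 0 := by
      intro a ha
      by_contra hga
      have h5 : a = a0 := by
        apply chi_sep lam hlam hab hrad χ hχ
        intro b
        have h6 := ih _ (h1 b) a ha
        rcases mul_eq_zero.1 h6 with h7 | h7
        · exact absurd h7 hga
        · exact sub_eq_zero.1 h7
      rw [h5] at ha
      exact ha0 ha
    intro a ha
    rcases Finset.mem_insert.1 ha with rfl | ha
    · rw [Finset.sum_insert ha0, Finset.sum_eq_zero (fun a ha => by rw [h4 a ha, zero_smul]),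
        add_zero] at hg
      exact unit_smul_ne hg
    · exact h4 a ha

include hlam in
theorem span_lam : Submodule.span K (Set.range fun a : A => (lam a : R K V)) =
    (DA A).toSubmodule := by
  rw [DA_eq_span]
  apply le_antisymm
  · rw [Submodule.span_le]
    rintro _ ⟨a, rfl⟩
    exact Submodule.subset_span ⟨lam a, rfl, by rw [hlam]; exact a.2⟩
  · rw [Submodule.span_le]
    rintro _ ⟨x, rfl, hx⟩
    obtain ⟨c, hc⟩ := lift_eq lam hlam hx
    rw [hc]
    exact Submodule.smul_mem _ _ (Submodule.subset_span ⟨_, rfl⟩)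

include hlam hab hrad hχ in
theorem finrank_DA [Finite A] : finrank K (DA A) = Nat.card A := by
  have : Fintype A := Fintype.ofFinite A
  have h1 := finrank_span_eq_card (lam_indep lam hlam hab hrad χ hχ)
  rw [span_lam lam hlam] at h1
  rw [Nat.card_eq_fintype_card, ← h1]
  rfl

include hlam in
theorem lam_mem (a : A) : (lam a : R K V) ∈ DA A :=
  lf_le_DA ⟨lam a, rfl, by rw [hlam]; exact a.2⟩

include hlam in
theorem lam_inv_mem (a : A) : (((lam a)⁻¹ : (R K V)ˣ) : R K V) ∈ DA A :=
  lf_le_DA ⟨(lam a)⁻¹, rfl, by rw [map_inv, hlam]; exact A.inv_mem a.2⟩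

include hlam hab hrad hχ in
/-- an ideal containing a non-zero element contains one -/
theorem ideal_one (I : TwoSidedIdeal (DA A)) (s : Finset A) : ∀ (g : A → K) (X : DA A),
    X ∈ I → X ≠ 0 → (X : R K V) = ∑ a ∈ s, g a • (lam a : R K V) → (1 : DA A) ∈ I := by
  classical
  induction s using Finset.induction_on with
  | empty =>
    intro g X _ hX0 hX
    exact absurd (Subtype.ext hX) hX0
  | insert a0 s ha0 ih =>
    intro g X hXI hX0 hX
    by_cases hall : ∀ b : A, ∑ a ∈ s, (g a * (χ b a - χ b a0)) • (lam a : R K V) = 0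
    · have h4 : ∀ a ∈ s, g a = 0 := by
        intro a ha
        by_contra hga
        have h5 : a = a0 := by
          apply chi_sep lam hlam hab hrad χ hχ
          intro b
          have h6 := (linearIndependent_iff'.1 (lam_indep lam hlam hab hrad χ hχ)) s _ (hall b) a ha
          rcases mul_eq_zero.1 h6 with h7 | h7
          · exact absurd h7 hga
          · exact sub_eq_zero.1 h7
        rw [h5] at ha
        exact ha0 ha
      rw [Finset.sum_insert ha0, Finset.sum_eq_zero (fun a ha => by rw [h4 a ha, zero_smul]),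
        add_zero] at hX
      have hg0 : g a0 ≠ 0 := by
        intro h
        rw [h, zero_smul] at hX
        exact hX0 (Subtype.ext hX)
      have h7 := I.mul_mem_left ((g a0)⁻¹ • ⟨_, lam_inv_mem lam hlam a0⟩ : DA A) X hXI
      convert h7 using 1
      apply Subtype.ext
      show (1 : R K V) = ((g a0)⁻¹ • (((lam a0)⁻¹ : (R K V)ˣ) : R K V)) * (X : R K V)
      rw [hX, smul_mul_assoc, mul_smul_comm, Units.inv_mul, smul_smul, inv_mul_cancel₀ hg0, one_smul]
    · push Not at hall
      obtain ⟨b, hb⟩ := hall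
      let Y : DA A := ⟨_, lam_mem lam hlam b⟩ * X * ⟨_, lam_inv_mem lam hlam b⟩ - χ b a0 • X
      have hYI : Y ∈ I := by
        apply I.sub_mem
        · exact I.mul_mem_right _ _ (I.mul_mem_left _ _ hXI)
        · have := I.mul_mem_left (χ b a0 • (1 : DA A)) X hXI
          rwa [smul_mul_assoc, one_mul] at this
      have hY : (Y : R K V) = ∑ a ∈ s, (g a * (χ b a - χ b a0)) • (lam a : R K V) := by
        show (lam b : R K V) * (X : R K V) * ((lam b)⁻¹ : (R K V)ˣ) - χ b a0 • (X : R K V) = _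
        rw [hX, Finset.mul_sum, Finset.sum_mul, Finset.smul_sum, ← Finset.sum_sub_distrib,
          Finset.sum_insert ha0]
        have h3 : ∀ a, (lam b : R K V) * (g a • (lam a : R K V)) * ((lam b)⁻¹ : (R K V)ˣ) -
            χ b a0 • (g a • (lam a : R K V)) = (g a * (χ b a - χ b a0)) • (lam a : R K V) := by
          intro a
          rw [mul_smul_comm, smul_mul_assoc, conj_lift lam χ hχ, smul_smul, smul_smul, ← sub_smul]
          congr 1
          ring
        simp only [h3, sub_self, mul_zero, zero_smul, zero_add]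
      exact ih _ Y hYI (fun h => hb (by rw [← hY, h]; rfl)) hY

include hlam in
theorem exists_coeff [Fintype A] (X : DA A) :
    ∃ g : A → K, (X : R K V) = ∑ a, g a • (lam a : R K V) := by
  have h1 : (X : R K V) ∈ Submodule.span K (Set.range fun a : A => (lam a : R K V)) := by
    rw [span_lam lam hlam]
    exact X.2
  obtain ⟨g, hg⟩ := (Submodule.mem_span_range_iff_exists_fun K).1 h1
  exact ⟨g, hg.symm⟩

include hlam hab hrad hχ in
theorem isSimple_DA [Finite A] : IsSimpleRing (DA A) := by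
  have : Fintype A := Fintype.ofFinite A
  have hnt : Nontrivial (DA A) := inferInstance
  refine ⟨⟨fun I => ?_⟩⟩
  by_cases hI : I = ⊥
  · exact Or.inl hI
  right
  rw [← TwoSidedIdeal.one_mem_iff]
  obtain ⟨X, hXI, hX0⟩ : ∃ X ∈ I, X ≠ 0 := by
    by_contra hcon
    push Not at hcon
    apply hI
    rw [eq_bot_iff]
    intro x hx
    rw [TwoSidedIdeal.mem_bot]
    exact hcon x hx
  obtain ⟨g, hg⟩ := exists_coeff lam hlam X
  exact ideal_one lam hlam hab hrad χ hχ I Finset.univ g X hXI hX0 hg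

include hlam hab hrad hχ in
/-- the centre of `K[A^]` -/
theorem center_DA [Finite A] (X : DA A) (h : ∀ Y : DA A, X * Y = Y * X) :
    ∃ c : K, X = algebraMap K (DA A) c := by
  classical
  have : Fintype A := Fintype.ofFinite A
  obtain ⟨g, hg⟩ := exists_coeff lam hlam X
  have h1 : ∀ a b : A, g a * (χ b a - 1) = 0 := by
    intro a b
    have h2 : (lam b : R K V) * (X : R K V) * ((lam b)⁻¹ : (R K V)ˣ) - (X : R K V) = 0 := by
      have h3 := congrArg (fun z : DA A => (z : R K V)) (h ⟨_, lam_mem lam hlam b⟩)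
      have h4 : (X : R K V) * (lam b : R K V) = (lam b : R K V) * (X : R K V) := h3
      rw [← h4, mul_assoc, Units.mul_inv, mul_one, sub_self]
    rw [hg, Finset.mul_sum, Finset.sum_mul, ← Finset.sum_sub_distrib] at h2
    have h3 : ∀ a, (lam b : R K V) * (g a • (lam a : R K V)) * ((lam b)⁻¹ : (R K V)ˣ) -
        g a • (lam a : R K V) = (g a * (χ b a - 1)) • (lam a : R K V) := by
      intro a
      rw [mul_smul_comm, smul_mul_assoc, conj_lift lam χ hχ, smul_smul, ← sub_smul]
      congr 1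
      ring
    simp only [h3] at h2
    exact (linearIndependent_iff'.1 (lam_indep lam hlam hab hrad χ hχ)) Finset.univ _ h2 a
      (Finset.mem_univ a)
  obtain ⟨c, hc⟩ := cj_eq_one (show cj K V (lam 1) = 1 by rw [hlam]; rfl)
  have hχ1 : ∀ b : A, χ b 1 = 1 := by
    intro b
    have h2 := hχ 1 b
    have h3 : (lam b : R K V) * lam 1 = (lam 1 : R K V) * lam b := by
      rw [hc, mul_smul_comm, smul_mul_assoc, one_mul, mul_one]
    have h4 : (χ b 1 - 1) • ((lam 1 * lam b : (R K V)ˣ) : R K V) = 0 := by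
      rw [sub_smul, one_smul, Units.val_mul, ← h2, h3, sub_self]
    exact sub_eq_zero.1 (unit_smul_ne h4)
  have h5 : ∀ a : A, a ≠ 1 → g a = 0 := by
    intro a ha
    by_contra hga
    apply ha
    apply chi_sep lam hlam hab hrad χ hχ
    intro b
    rw [hχ1, ← sub_eq_zero]
    exact (mul_eq_zero.1 (h1 a b)).resolve_left hga
  refine ⟨g 1 * c, Subtype.ext ?_⟩
  rw [hg, Finset.sum_eq_single 1 (fun a _ ha => by rw [h5 a ha, zero_smul])
    (fun h => absurd (Finset.mem_univ _) h), hc, smul_smul]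
  show _ = algebraMap K (R K V) (g 1 * c)
  rw [Algebra.algebraMap_eq_smul_one]

include hlam hab hrad hχ in
/-- `K[A^] ≅ M_m(K)` -/
theorem exists_matrix [Finite K] [FiniteDimensional K V] [Finite A] :
    ∃ (m : ℕ) (_ : 0 < m) (ψ : Matrix (Fin m) (Fin m) K ≃ₐ[K] DA A), Nat.card A = m * m := by
  have : Finite (R K V) := Module.finite_of_finite K
  have hfin : Finite (DA A) := inferInstance
  have hs : IsSimpleRing (DA A) := isSimple_DA lam hlam hab hrad χ hχ
  have : IsArtinianRing (DA A) := inferInstance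
  obtain ⟨m, hm, D, iD, iA, iF, ⟨e⟩⟩ :=
    IsSimpleRing.exists_algEquiv_matrix_divisionRing_finite K (DA A)
  have : Finite D := Module.finite_of_finite K
  let iDF : Field D := littleWedderburn D
  have hbij : Function.Bijective (algebraMap K D) := by
    refine ⟨(algebraMap K D).injective, fun d => ?_⟩
    let M : Matrix (Fin m) (Fin m) D := Matrix.diagonal fun _ => d
    have hM : ∀ Y : DA A, e.symm M * Y = Y * e.symm M := by
      intro Y
      apply e.injective
      rw [map_mul, map_mul, AlgEquiv.apply_symm_apply]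
      ext i j
      rw [Matrix.diagonal_mul, Matrix.mul_diagonal]
      exact iDF.mul_comm _ _
    obtain ⟨c, hc⟩ := center_DA lam hlam hab hrad χ hχ (e.symm M) hM
    refine ⟨c, ?_⟩
    have h1 : M = algebraMap K _ c := by
      rw [← AlgEquiv.apply_symm_apply e M, hc, AlgEquiv.commutes]
    have i0 : Fin m := ⟨0, Nat.pos_of_ne_zero hm.ne⟩
    have h2 := congrFun (congrFun h1 i0) i0
    rw [Matrix.algebraMap_matrix_apply, if_pos rfl] at h2
    rw [← h2]
    show Matrix.diagonal (fun _ => d) i0 i0 = d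
    rw [Matrix.diagonal_apply_eq]
  let e1 : K ≃ₐ[K] D := AlgEquiv.ofBijective (Algebra.ofId K D) hbij
  let ψ : Matrix (Fin m) (Fin m) K ≃ₐ[K] DA A := (e1.mapMatrix).trans e.symm
  refine ⟨m, Nat.pos_of_ne_zero hm.ne, ψ, ?_⟩
  rw [← finrank_DA lam hlam hab hrad χ hχ, ← LinearEquiv.finrank_eq ψ.toLinearEquiv,
    Module.finrank_matrix, Module.finrank_self, mul_one, Fintype.card_fin]

end NC

end

end Cfsg.Agent.H886.FC
end

-- part: H886/FC/Class
section
/-!
# S5764: the classification `StmtClass` (task L-CL)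
-/

set_option autoImplicit false

universe u v

namespace Cfsg.Agent.H886.FC

open Module Cfsg.Agent.H198.FC

section

variable {K : Type u} [Field K] {V : Type v} [AddCommGroup V] [Module K V]

/-- the reducible alternative -/
def Red (S : Subgroup (Equiv.Perm (R K V))) : Prop :=
  ∃ W : Submodule K V, W ≠ ⊥ ∧ W ≠ ⊤ ∧ ∀ f ∈ S, f ∈ RP K V → Stb f W

theorem norm_inv {S A : Subgroup (Equiv.Perm (R K V))} (h : ∀ f ∈ S, ∀ a ∈ A, f * a * f⁻¹ ∈ A)
    {f : Equiv.Perm (R K V)} (hf : f ∈ S) : ∀ a ∈ A, f⁻¹ * a * f⁻¹⁻¹ ∈ A :=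
  h f⁻¹ (S.inv_mem hf)

/-- the unipotent case -/
theorem red_of_char [Finite K] [FiniteDimensional K V] [Nontrivial V]
    {S A : Subgroup (Equiv.Perm (R K V))} (hS : S ≤ RA K V) {r : ℕ} (hr : r.Prime)
    (hA0 : A ≠ ⊥) (hA : A ≤ IN K V) (hAS : ∀ f ∈ S, ∀ a ∈ A, f * a * f⁻¹ ∈ A)
    (hab : ∀ a ∈ A, ∀ b ∈ A, a * b = b * a) (hAr : ∀ a ∈ A, a ^ r = 1) (hrK : (r : K) = 0) :
    Red S := by
  have : Fact r.Prime := ⟨hr⟩
  have : CharP K r := (CharP.charP_iff_prime_eq_zero hr).2 hrK
  have : Finite V := Module.finite_of_finite K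
  have : Finite (R K V) := Module.finite_of_finite K
  -- the unipotent lifts commute
  have hcm : ∀ x y : (R K V)ˣ, cj K V x ∈ A → x ^ r = 1 → cj K V y ∈ A → x * y = y * x := by
    intro x y hx hxr hy
    have h1 : cj K V ((x * y) * (y * x)⁻¹) = 1 := by
      rw [map_mul, map_inv, map_mul, map_mul, hab _ hx _ hy, mul_inv_cancel]
    obtain ⟨c, hc⟩ := cj_eq_one h1
    have h2 : (x : R K V) * y = c • ((y : R K V) * x) := by
      have h3 : ((x * y : (R K V)ˣ) : R K V) = (((x * y) * (y * x)⁻¹ : (R K V)ˣ) : R K V) *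
          ((y * x : (R K V)ˣ) : R K V) := by
        rw [← Units.val_mul, inv_mul_cancel_right]
      rw [hc, smul_mul_assoc, one_mul, Units.val_mul, Units.val_mul] at h3
      exact h3
    have h4 : ∀ k : ℕ, (x : R K V) ^ k * y = c ^ k • ((y : R K V) * (x : R K V) ^ k) := by
      intro k
      induction k with
      | zero => simp
      | succ k ih =>
        rw [pow_succ', mul_assoc, ih, mul_smul_comm, ← mul_assoc, h2, smul_mul_assoc, smul_smul,
          mul_assoc, ← pow_succ, ← pow_succ']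
    have h5 := h4 r
    have hxr' : (x : R K V) ^ r = 1 := by
      rw [← Units.val_pow_eq_pow_val, hxr, Units.val_one]
    rw [hxr', one_mul, mul_one] at h5
    have h6 : (c ^ r - 1) • (y : R K V) = 0 := by rw [sub_smul, one_smul, ← h5, sub_self]
    have h7 : c ^ r - 1 = 0 := unit_smul_ne h6
    have h8 : (c - 1) ^ r = 0 := by rw [sub_pow_char, one_pow, h7]
    have h9 : c = 1 := sub_eq_zero.1 (pow_eq_zero_iff hr.ne_zero |>.1 h8)
    apply Units.ext
    rw [Units.val_mul, Units.val_mul, h2, h9, one_smul]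
  let U : Subgroup (R K V)ˣ :=
    { carrier := {x | cj K V x ∈ A ∧ x ^ r = 1}
      mul_mem' := by
        rintro x y ⟨hx, hx'⟩ ⟨hy, hy'⟩
        refine ⟨by rw [map_mul]; exact A.mul_mem hx hy, ?_⟩
        rw [(show Commute x y from hcm x y hx hx' hy).mul_pow, hx', hy', one_mul]
      one_mem' := ⟨by rw [map_one]; exact A.one_mem, one_pow r⟩
      inv_mem' := by
        rintro x ⟨hx, hx'⟩
        exact ⟨by rw [map_inv]; exact A.inv_mem hx, by rw [inv_pow, hx', inv_one]⟩ }
  have hU : ∀ x, x ∈ U ↔ cj K V x ∈ A ∧ x ^ r = 1 := fun x => Iff.rfl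
  have hpU : IsPGroup r U := by
    intro x
    refine ⟨1, ?_⟩
    rw [pow_one]
    exact Subtype.ext x.2.2
  -- every element of `A` has a unipotent lift
  have hlift : ∀ a ∈ A, ∃ x ∈ U, cj K V x = a := by
    intro a ha
    obtain ⟨x, hx⟩ := hA ha
    have h1 : cj K V (x ^ r) = 1 := by rw [map_pow, hx, hAr a ha]
    obtain ⟨c, hc⟩ := cj_eq_one h1
    have hc0 : c ≠ 0 := by
      rintro rfl
      have h2 : ((1 : K)) • ((x ^ r : (R K V)ˣ) : R K V) = 0 := by rw [hc]; simp
      exact one_ne_zero (unit_smul_ne h2)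
    obtain ⟨d, hd⟩ : ∃ d : K, d ^ r = c := by
      have : Function.Surjective (frobenius K r) :=
        Finite.surjective_of_injective (frobenius_inj K r)
      exact this c
    have hd0 : d ≠ 0 := by
      rintro rfl
      rw [zero_pow hr.ne_zero] at hd
      exact hc0 hd.symm
    let y : (R K V)ˣ := (Units.mk0 d hd0)⁻¹ • x
    have hy : (y : R K V) = d⁻¹ • (x : R K V) := rfl
    have hyr : y ^ r = 1 := by
      apply Units.ext
      rw [Units.val_pow_eq_pow_val, hy, smul_pow, ← Units.val_pow_eq_pow_val, hc, smul_smul,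
        inv_pow, hd, inv_mul_cancel₀ hc0, one_smul, Units.val_one]
    have hyx : cj K V y = cj K V x := by
      have h3 : cj K V (y * x⁻¹) = 1 := by
        apply cj_scalar (c := d⁻¹)
        rw [Units.val_mul, hy, smul_mul_assoc, Units.mul_inv]
      rw [map_mul, map_inv] at h3
      exact mul_inv_eq_one.1 h3
    exact ⟨y, (hU y).2 ⟨by rw [hyx, hx]; exact ha, hyr⟩, by rw [hyx, hx]⟩
  let W : Submodule K V :=
    { carrier := {v | ∀ x ∈ U, (x : R K V) v = v}
      add_mem' := by
        intro v w hv hw x hx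
        rw [map_add, hv x hx, hw x hx]
      zero_mem' := fun x _ => map_zero _
      smul_mem' := by
        intro c v hv x hx
        rw [map_smul, hv x hx] }
  have hW : ∀ v, v ∈ W ↔ ∀ x ∈ U, (x : R K V) v = v := fun v => Iff.rfl
  refine ⟨W, ?_, ?_, ?_⟩
  · have hcard : r ∣ Nat.card V := by
      rw [Module.natCard_eq_pow_finrank (K := K) (V := V)]
      apply dvd_pow _ (Module.finrank_pos).ne'
      have : Fintype K := Fintype.ofFinite K
      rw [Nat.card_eq_fintype_card]
      obtain ⟨⟨k, hk0⟩, hpp, hk⟩ := FiniteField.card K r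
      rw [hk]
      exact dvd_pow_self r hk0.ne'
    obtain ⟨b, hb, hb0⟩ := hpU.exists_fixed_point_of_prime_dvd_card_of_fixed_point V hcard
      (a := (0 : V)) (by intro x; exact map_zero _)
    intro hbot
    have : b ∈ W := (hW b).2 fun x hx => hb ⟨x, hx⟩
    rw [hbot, Submodule.mem_bot] at this
    exact hb0 this.symm
  · intro htop
    apply hA0
    rw [Subgroup.eq_bot_iff_forall]
    intro a ha
    obtain ⟨x, hx, rfl⟩ := hlift a ha
    apply cj_scalar (c := 1)
    rw [one_smul]
    ext v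
    have : v ∈ W := by rw [htop]; trivial
    exact (hW v).1 this x hx
  · intro f hf hfP X hX v
    rw [hW]
    intro x hx
    have hfi : f⁻¹ ∈ RA K V := inv_mem (hS hf)
    have hx' : fU f⁻¹ hfi x ∈ U := by
      refine (hU _).2 ⟨fU_mem hfi (norm_inv hAS hf) hx.1, ?_⟩
      apply Units.ext
      rw [Units.val_pow_eq_pow_val, fU_val, ← ra_pow hfi, ← Units.val_pow_eq_pow_val, hx.2,
        Units.val_one, ra_one hfi]
    have h1 : f⁻¹ (x : R K V) * X = X := by
      ext w
      exact (hW _).1 (hX w) _ hx'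
    have h2 : (x : R K V) * f X = f X := by
      conv_rhs => rw [← h1, hfP.2]
      congr 1
      exact (f.apply_symm_apply _).symm
    rw [← Module.End.mul_apply, h2]

/-- the commutative case with several primitive idempotents -/
theorem comm_many [Finite K] [FiniteDimensional K V] (hn : 1 ≤ finrank K V)
    {S A : Subgroup (Equiv.Perm (R K V))} (hS : S ≤ RA K V)
    (hAS : ∀ f ∈ S, ∀ a ∈ A, f * a * f⁻¹ ∈ A)
    (hc : ∀ X ∈ Lf A, ∀ Y ∈ Lf A, X * Y = Y * X) {e₂ : R K V} (he₂ : e₂ ∈ Prim A) (hne : e₂ ≠ 1) :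
    Red S ∨ (∃ (k d : ℕ) (e : Fin k → R K V), 2 ≤ k ∧ 1 ≤ d ∧ CompleteOrthogonalIdempotents e ∧
      (∀ i, finrank K (LinearMap.range (e i)) = d) ∧
      ∀ f ∈ S, ∃ π : Equiv.Perm (Fin k), ∀ i, f (e i) = e (π i)) := by
  classical
  obtain ⟨P, hP, hsum⟩ := exists_finset hc
  have hmap : ∀ f ∈ S, ∀ e ∈ P, f e ∈ P := fun f hf e he =>
    (hP _).2 (prim_map hc (hS hf) (hAS f hf) (norm_inv hAS hf) ((hP e).1 he))
  have hmul : ∀ s : Finset (R K V), s ⊆ P → ∀ e ∈ P, (∑ g ∈ s, g) * e = if e ∈ s then e else 0 := by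
    intro s hs e he
    rw [Finset.sum_mul]
    split_ifs with h
    · rw [Finset.sum_eq_single e]
      · exact ((hP e).1 he).2.1
      · intro g hg hge
        exact prim_ortho hc ((hP g).1 (hs hg)) ((hP e).1 he) hge
      · intro h'
        exact absurd h h'
    · apply Finset.sum_eq_zero
      intro g hg
      apply prim_ortho hc ((hP g).1 (hs hg)) ((hP e).1 he)
      rintro rfl
      exact h hg
  by_cases htr : ∀ e ∈ P, ∀ e' ∈ P, ∃ f ∈ S, f ∈ RP K V ∧ f e = e'
  · -- transitive
    right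
    have he₂' : e₂ ∈ P := (hP _).2 he₂
    let k := P.card
    let ε := P.equivFin
    let e : Fin k → R K V := fun i => (ε.symm i : R K V)
    have heP : ∀ i, e i ∈ P := fun i => (ε.symm i).2
    have heinj : ∀ i j, e i = e j → i = j := fun i j h =>
      ε.symm.injective (Subtype.ext h)
    refine ⟨k, finrank K (LinearMap.range e₂), e, ?_, ?_, ?_, ?_, ?_⟩
    · by_contra hk
      have h1 : P.card ≤ 1 := by
        have : ¬ 2 ≤ P.card := hk
        omega
      have h2 : P = {e₂} := by
        apply Finset.eq_singleton_iff_unique_mem.2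
        exact ⟨he₂', fun x hx => Finset.card_le_one.1 h1 x hx e₂ he₂'⟩
      rw [h2, Finset.sum_singleton] at hsum
      exact hne hsum
    · rw [Nat.one_le_iff_ne_zero]
      intro h
      rw [Submodule.finrank_eq_zero, LinearMap.range_eq_bot] at h
      exact he₂.2.2.1 h
    · rw [CompleteOrthogonalIdempotents.iff_ortho_complete]
      refine ⟨fun i j hij => prim_ortho hc ((hP _).1 (heP i)) ((hP _).1 (heP j))
        (fun h => hij (heinj i j h)), ?_⟩
      rw [← hsum, ← Finset.sum_coe_sort P]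
      exact Equiv.sum_comp ε.symm (fun x : P => (x : R K V))
    · intro i
      obtain ⟨f, hf, hfP, hfe⟩ := htr e₂ he₂' (e i) (heP i)
      rw [← hfe, rank_map hfP he₂.2.1 hn]
    · intro f hf
      let F : P ≃ P :=
        { toFun := fun x => ⟨f x, hmap f hf x x.2⟩
          invFun := fun x => ⟨f⁻¹ (x : R K V), hmap f⁻¹ (S.inv_mem hf) x x.2⟩
          left_inv := fun x => Subtype.ext (f.symm_apply_apply _)
          right_inv := fun x => Subtype.ext (f.apply_symm_apply _) }
      refine ⟨(ε.symm.trans F).trans ε, fun i => ?_⟩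
      show f (ε.symm i : R K V) = (ε.symm (ε (F (ε.symm i))) : R K V)
      rw [Equiv.symm_apply_apply]
      rfl
  · -- an orbit
    left
    push Not at htr
    obtain ⟨e₀, he₀, e₁, he₁, h01⟩ := htr
    let O := P.filter fun e => ∃ f ∈ S, f ∈ RP K V ∧ f e₀ = e
    have hO : ∀ e, e ∈ O ↔ e ∈ P ∧ ∃ f ∈ S, f ∈ RP K V ∧ f e₀ = e := fun e => Finset.mem_filter
    have hOP : O ⊆ P := Finset.filter_subset _ _
    set s := ∑ e ∈ O, e with hs
    have h0 : e₀ ∈ O := (hO _).2 ⟨he₀, 1, S.one_mem, (RP K V).one_mem, rfl⟩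
    have h1 : e₁ ∉ O := by
      intro h
      obtain ⟨_, f, hf, hfP, hfe⟩ := (hO _).1 h
      exact h01 f hf hfP hfe
    have hse₀ : s * e₀ = e₀ := by rw [hs, hmul O hOP e₀ he₀, if_pos h0]
    have hse₁ : s * e₁ = 0 := by rw [hs, hmul O hOP e₁ he₁, if_neg h1]
    have hsD : s ∈ DA A := (DA A).sum_mem fun e he => ((hP e).1 (hOP he)).1
    have hss : s * s = s := by
      conv_lhs => rw [hs, Finset.mul_sum]
      refine Finset.sum_congr rfl fun e he => ?_
      rw [hmul O hOP e (hOP he), if_pos he]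
    refine ⟨LinearMap.range s, ?_, ?_, ?_⟩
    · intro h
      rw [LinearMap.range_eq_bot] at h
      rw [h, zero_mul] at hse₀
      exact ((hP _).1 he₀).2.2.1 hse₀.symm
    · intro h
      apply ((hP _).1 he₁).2.2.1
      have h2 : e₁ * s = 0 := by
        rw [DA_comm hc ((hP _).1 he₁).1 hsD, hse₁]
      ext v
      have h3 : v ∈ LinearMap.range s := by rw [h]; trivial
      obtain ⟨w, rfl⟩ := h3
      rw [← Module.End.mul_apply, h2]
      rfl
    · intro f hf hfP
      apply stb_of_idem hfP hss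
      rw [hs, ra_sum (hS hf)]
      have hmO : ∀ f ∈ S, f ∈ RP K V → ∀ e ∈ O, f e ∈ O := by
        intro f hf hfP e he
        obtain ⟨h4, g, hg, hgP, rfl⟩ := (hO _).1 he
        exact (hO _).2 ⟨hmap f hf _ h4, f * g, S.mul_mem hf hg, (RP K V).mul_mem hfP hgP, rfl⟩
      refine Finset.sum_nbij' (fun e => f e) (fun e => f⁻¹ e) (hmO f hf hfP)
        (hmO f⁻¹ (S.inv_mem hf) ((RP K V).inv_mem hfP)) ?_ ?_ ?_
      · intro e _
        exact f.symm_apply_apply e
      · intro e _
        exact f.apply_symm_apply e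
      · intro e _
        rfl

/-- nilpotent-free: the noncommutative case -/
theorem noncomm [Finite K] [FiniteDimensional K V] [Nontrivial V]
    {S A : Subgroup (Equiv.Perm (R K V))} (hS : S ≤ RA K V) {r : ℕ} (hr : r.Prime)
    (hA0 : A ≠ ⊥) (hA : A ≤ IN K V) (hAS' : A ≤ S) (hAS : ∀ f ∈ S, ∀ a ∈ A, f * a * f⁻¹ ∈ A)
    (hmin : ∀ B : Subgroup (Equiv.Perm (R K V)), B ≤ A → (∀ g ∈ S, ∀ f ∈ B, g * f * g⁻¹ ∈ B) →
      B = ⊥ ∨ B = A)
    (hab : ∀ a ∈ A, ∀ b ∈ A, a * b = b * a) (hAr : ∀ a ∈ A, a ^ r = 1)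
    (hc : ¬ ∀ X ∈ Lf A, ∀ Y ∈ Lf A, X * Y = Y * X) :
    (∃ (u' y : ℕ) (Φ : Matrix (Fin u' × Fin y) (Fin u' × Fin y) K ≃ₐ[K] R K V), 2 ≤ u' ∧ 2 ≤ y ∧
      ∀ f ∈ S, ∀ B : Matrix (Fin u') (Fin u') K, ∃ B' : Matrix (Fin u') (Fin u') K,
        f (Φ (Matrix.kroneckerMap (· * ·) B (1 : Matrix (Fin y) (Fin y) K))) =
          Φ (Matrix.kroneckerMap (· * ·) B' (1 : Matrix (Fin y) (Fin y) K))) ∨
    (∃ a : ℕ, C6Data S A r a) := by
  classical
  have : Fact r.Prime := ⟨hr⟩
  have : Finite V := Module.finite_of_finite K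
  have : Finite (R K V) := Module.finite_of_finite K
  -- the radical
  let C : Subgroup (R K V)ˣ :=
    { carrier := {x | cj K V x ∈ A ∧ ∀ Y ∈ Lf A, (x : R K V) * Y = Y * x}
      mul_mem' := by
        rintro x y ⟨hx, hx'⟩ ⟨hy, hy'⟩
        refine ⟨by rw [map_mul]; exact A.mul_mem hx hy, fun Y hY => ?_⟩
        rw [Units.val_mul, mul_assoc, hy' Y hY, ← mul_assoc, hx' Y hY, mul_assoc]
      one_mem' := ⟨by rw [map_one]; exact A.one_mem, fun Y _ => by
        rw [Units.val_one, one_mul, mul_one]⟩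
      inv_mem' := by
        rintro x ⟨hx, hx'⟩
        refine ⟨by rw [map_inv]; exact A.inv_mem hx, fun Y hY => ?_⟩
        have h1 := hx' Y hY
        calc ((x⁻¹ : (R K V)ˣ) : R K V) * Y
            = ((x⁻¹ : (R K V)ˣ) : R K V) * (Y * x) * ((x⁻¹ : (R K V)ˣ) : R K V) := by
              rw [mul_assoc, mul_assoc, Units.mul_inv, mul_one]
          _ = ((x⁻¹ : (R K V)ˣ) : R K V) * (x * Y) * ((x⁻¹ : (R K V)ˣ) : R K V) := by rw [h1]
          _ = Y * ((x⁻¹ : (R K V)ˣ) : R K V) := by
              rw [← mul_assoc, Units.inv_mul, one_mul] }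
  have hC : ∀ x, x ∈ C ↔ cj K V x ∈ A ∧ ∀ Y ∈ Lf A, (x : R K V) * Y = Y * x := fun x => Iff.rfl
  have hCf : ∀ f (hf : f ∈ S), ∀ x ∈ C, fU f (hS hf) x ∈ C := by
    intro f hf x hx
    refine (hC _).2 ⟨fU_mem (hS hf) (hAS f hf) hx.1, fun Y hY => ?_⟩
    have h1 : f⁻¹ Y ∈ Lf A := map_lf (inv_mem (hS hf)) (norm_inv hAS hf) hY
    have h2 := ra_comm (hS hf) (hx.2 _ h1)
    rw [show f (f⁻¹ Y) = Y from f.apply_symm_apply Y] at h2
    exact h2
  let B : Subgroup (Equiv.Perm (R K V)) := C.map (cj K V)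
  have hBA : B ≤ A := by
    rintro _ ⟨x, hx, rfl⟩
    exact hx.1
  have hBS : ∀ g ∈ S, ∀ f ∈ B, g * f * g⁻¹ ∈ B := by
    rintro g hg _ ⟨x, hx, rfl⟩
    rcases (hS hg).2 with h | h
    · rw [conj_cj_rp (hS hg) h]
      exact ⟨_, hCf g hg x hx, rfl⟩
    · rw [conj_cj_anti (hS hg) h]
      exact B.inv_mem ⟨_, hCf g hg x hx, rfl⟩
  have hB : B = ⊥ := by
    rcases hmin B hBA hBS with h | h
    · exact h
    · exfalso
      apply hc
      rintro _ ⟨x, rfl, hx⟩ Y hY
      rw [← h] at hx
      obtain ⟨x', hx', hxx⟩ := hx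
      have h1 : cj K V (x * x'⁻¹) = 1 := by rw [map_mul, map_inv, hxx, mul_inv_cancel]
      obtain ⟨c, hcc⟩ := cj_eq_one h1
      have h2 : (x : R K V) = c • (x' : R K V) := by
        have h3 : (x : R K V) = ((x * x'⁻¹ : (R K V)ˣ) : R K V) * (x' : R K V) := by
          rw [← Units.val_mul, inv_mul_cancel_right]
        rw [h3, hcc, smul_mul_assoc, one_mul]
      rw [h2, smul_mul_assoc, mul_smul_comm, hx'.2 Y hY]
  have hrad : ∀ x : (R K V)ˣ, cj K V x ∈ A → (∀ Y ∈ Lf A, (x : R K V) * Y = Y * x) →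
      cj K V x = 1 := by
    intro x hx hx'
    have h1 : cj K V x ∈ B := ⟨x, ⟨hx, hx'⟩, rfl⟩
    rwa [hB, Subgroup.mem_bot] at h1
  -- the lifts
  have hex : ∀ a : A, ∃ x : (R K V)ˣ, cj K V x = a := fun a => hA a.2
  choose lam hlam using hex
  obtain ⟨χ, hχ⟩ := exists_chi lam hlam hab
  obtain ⟨m, hm0, ψ, hcard⟩ := exists_matrix lam hlam hab hrad χ hχ
  have hcA : 1 < Nat.card A := by
    have h1 : Nat.card A ≠ 1 := fun h => hA0 (Subgroup.card_eq_one.1 h)
    have h2 : 0 < Nat.card A := Nat.card_pos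
    omega
  have hm2 : 2 ≤ m := by
    by_contra h
    have h1 : m = 1 := by omega
    rw [h1] at hcard
    omega
  obtain ⟨y, Φ, hΦ, hfr⟩ := exists_tensor m ⟨0, hm0⟩ ((DA A).val.comp (ψ : _ →ₐ[K] _))
  have hΦ' : ∀ B : Matrix (Fin m) (Fin m) K,
      Φ (Matrix.kroneckerMap (· * ·) B (1 : Matrix (Fin y) (Fin y) K)) = (ψ B : R K V) := hΦ
  have hn0 : 0 < finrank K V := Module.finrank_pos
  have hy0 : y ≠ 0 := by
    rintro rfl
    omega
  by_cases hy : 2 ≤ y
  · left
    refine ⟨m, y, Φ, hm2, hy, fun f hf B => ?_⟩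
    rw [hΦ']
    have h1 : f (ψ B : R K V) ∈ DA A := map_DA (hS hf) (hAS f hf) (ψ B).2
    refine ⟨ψ.symm ⟨_, h1⟩, ?_⟩
    rw [hΦ', AlgEquiv.apply_symm_apply]
  · right
    have hy1 : y = 1 := by omega
    rw [hy1, mul_one] at hfr
    have hpA : IsPGroup r A := by
      intro a
      refine ⟨1, ?_⟩
      rw [pow_one]
      exact Subtype.ext (hAr a a.2)
    obtain ⟨N, hN⟩ := IsPGroup.iff_card.1 hpA
    obtain ⟨a, _, ha⟩ := (Nat.dvd_prime_pow hr).1 (show m ∣ r ^ N by
      rw [← hN, hcard]; exact dvd_mul_right m m)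
    have ha1 : 1 ≤ a := by
      rw [Nat.one_le_iff_ne_zero]
      rintro rfl
      rw [pow_zero] at ha
      omega
    refine ⟨a, hr, ha1, by rw [hfr, ha], hAS', hA, ?_, hAr, hab, ?_, fun g hg f hf => hAS g hg f hf,
      fun B hB hi => hmin B hB hi⟩
    · rw [hcard, ha, ← pow_add]
      congr 1
      ring
    · have h1 := DA_eq_span A
      have h2 : finrank K (DA A) = finrank K (R K V) := by
        rw [finrank_DA lam hlam hab hrad χ hχ, hcard, Module.finrank_linearMap, hfr]
      have h3 : (DA A).toSubmodule = ⊤ := Submodule.eq_top_of_finrank_eq h2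
      rw [← h3, h1]
      rfl

end

/-- **L-CL** -/
theorem stmtClass : StmtClass.{u, v} := by
  intro K _ _ V _ _ _ S hn hS _ hsol hne
  have : Nontrivial V := Module.nontrivial_of_finrank_pos (R := K) (by omega)
  have : Finite V := Module.finite_of_finite K
  have : Finite (R K V) := Module.finite_of_finite K
  have hINn : ∀ g ∈ S, ∀ a ∈ S ⊓ IN K V, g * a * g⁻¹ ∈ S ⊓ IN K V := by
    rintro g hg _ ⟨ha, ⟨x, rfl⟩⟩
    refine ⟨S.mul_mem (S.mul_mem hg ha) (S.inv_mem hg), ?_⟩
    rcases (hS hg).2 with h | h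
    · rw [conj_cj_rp (hS hg) h]
      exact ⟨_, rfl⟩
    · rw [conj_cj_anti (hS hg) h]
      exact (IN K V).inv_mem ⟨_, rfl⟩
  obtain ⟨A, r, hr, hA0, hAN, hAS, hmin, hab, hAr⟩ :=
    exists_minimal S (S ⊓ IN K V) hsol hne inf_le_left hINn
  have hA : A ≤ IN K V := hAN.trans inf_le_right
  have hAS' : A ≤ S := hAN.trans inf_le_left
  by_cases hrK : (r : K) = 0
  · exact Or.inl (red_of_char hS hr hA0 hA hAS hab hAr hrK)
  by_cases hc : ∀ X ∈ Lf A, ∀ Y ∈ Lf A, X * Y = Y * X
  · by_cases hP : ∀ e ∈ Prim A, e = 1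
    · -- field
      right; right; left
      obtain ⟨Q, hQ, hQd⟩ := exists_Q hr hrK hAr hc
      have hf := isField_DA hc hQ hQd hP
      have hbot : DA A ≠ ⊥ := by
        intro hbot
        apply hA0
        rw [Subgroup.eq_bot_iff_forall]
        intro a ha
        obtain ⟨x, rfl⟩ := hA ha
        have h1 : (x : R K V) ∈ DA A := lf_le_DA ⟨x, rfl, ha⟩
        rw [hbot, Algebra.mem_bot] at h1
        obtain ⟨c, hcc⟩ := h1
        apply cj_scalar (c := c)
        rw [← hcc, Algebra.algebraMap_eq_smul_one]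
      obtain ⟨E, hE, hEp, hEf⟩ := exists_sub (DA A) hf hbot
      exact ⟨E, hE, hEp, fun f hf X hX => hEf f (hS hf) (fun X hX => map_DA (hS hf) (hAS f hf) hX) X hX⟩
    · push Not at hP
      obtain ⟨e₂, he₂, hne₂⟩ := hP
      rcases comm_many (by omega) hS hAS hc he₂ hne₂ with h | h
      · exact Or.inl h
      · exact Or.inr (Or.inl h)
  · rcases noncomm hS hr hA0 hA hAS' hAS hmin hab hAr hc with h | ⟨a, h⟩
    · exact Or.inr (Or.inr (Or.inr (Or.inl h)))
    · exact Or.inr (Or.inr (Or.inr (Or.inr ⟨A, r, a, h⟩)))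

end Cfsg.Agent.H886.FC
end

-- part: H886/FC/ClassB
section
/-!
# S5764: the classification `StmtBClass` (task B-CL)

The adjoint `st` is an element of `RA` commuting with `RB b`; apply `StmtClass` to `S × ⟨st⟩`.
-/

set_option autoImplicit false

universe u v

namespace Cfsg.Agent.H886.FC

open Module Cfsg.Agent.H198.FC

section

variable {K : Type u} [Field K] {V : Type v} [AddCommGroup V] [Module K V] (b : Cl K V)

theorem adj_symm {X Y : R K V} (h : b.Adj X Y) : b.Adj Y X := by
  intro v w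
  rcases b.typ with ⟨_, ht⟩ | ⟨_, ht⟩
  · rw [ht (w := Y v) (v := w), ← h, ht (w := X w) (v := v), b.invol]
  · have hs : ∀ v w, b.B v w = - b.B w v := by
      intro v w
      have h1 := ht (v + w)
      rw [b.add_left, b.add_right, b.add_right, ht, ht, zero_add, add_zero] at h1
      exact eq_neg_of_add_eq_zero_left h1
    rw [hs, ← h, hs, neg_neg]

theorem nondeg_right {w : V} (h : ∀ v, b.B v w = 0) : w = 0 := by
  apply b.nondeg
  intro v
  rcases b.typ with ⟨_, ht⟩ | ⟨_, ht⟩
  · rw [ht v w, h, map_zero]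
  · have h1 := ht (v + w)
    rw [b.add_left, b.add_right, b.add_right, ht, ht, h, zero_add, add_zero, zero_add] at h1
    exact h1

theorem B_zero_left (w : V) : b.B 0 w = 0 := by
  have := b.smul_left 0 0 w
  rwa [zero_smul, zero_mul] at this

theorem B_zero_right (v : V) : b.B v 0 = 0 := by
  have := b.smul_right 0 v 0
  rwa [zero_smul, map_zero, zero_mul] at this

theorem B_sub_right (v w w' : V) : b.B v (w - w') = b.B v w - b.B v w' := by
  have h1 : w = (w - w') + w' := by abel
  have h2 := b.add_right v (w - w') w'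
  rw [← h1] at h2
  rw [h2, add_sub_cancel_right]

/-- the functional `B(·, w)` -/
def fn (w : V) : Module.Dual K V where
  toFun v := b.B v w
  map_add' v v' := b.add_left v v' w
  map_smul' a v := by rw [b.smul_left]; rfl

theorem fn_surj [Finite K] [FiniteDimensional K V] : Function.Surjective (fn b) := by
  have : Finite V := Module.finite_of_finite K
  have hinj : Function.Injective (fn b) := by
    intro w w' h
    rw [← sub_eq_zero]
    apply nondeg_right b
    intro v
    rw [B_sub_right, sub_eq_zero]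
    exact LinearMap.congr_fun h v
  have : Finite (Module.Dual K V) := Module.finite_of_finite K
  have hcard : Nat.card V = Nat.card (Module.Dual K V) := by
    rw [Module.natCard_eq_pow_finrank (K := K) (V := V),
      Module.natCard_eq_pow_finrank (K := K) (V := Module.Dual K V), Subspace.dual_finrank_eq]
  exact ((Nat.bijective_iff_injective_and_card (fn b)).2 ⟨hinj, hcard⟩).2

theorem exists_adj [Finite K] [FiniteDimensional K V] (X : R K V) : ∃ Y : R K V, b.Adj X Y := by
  have h : ∀ w, ∃ w', ∀ v, b.B (X v) w = b.B v w' := by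
    intro w
    obtain ⟨w', hw'⟩ := fn_surj b ((fn b w) ∘ₗ X)
    exact ⟨w', fun v => (LinearMap.congr_fun hw' v).symm⟩
  choose Y hY using h
  have huniq : ∀ w w', (∀ v, b.B v w = b.B v w') → w = w' := by
    intro w w' h
    rw [← sub_eq_zero]
    apply nondeg_right b
    intro v
    rw [B_sub_right, sub_eq_zero, h]
  refine ⟨{ toFun := Y, map_add' := fun w w' => ?_, map_smul' := fun c w => ?_ }, fun v w => hY w v⟩
  · apply huniq
    intro v
    rw [← hY, b.add_right, b.add_right, ← hY, ← hY]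
  · apply huniq
    intro v
    rw [← hY, b.smul_right, RingHom.id_apply, b.smul_right, ← hY]

theorem adj_unique {X Y Y' : R K V} (h : b.Adj X Y) (h' : b.Adj X Y') : Y = Y' := by
  ext w
  rw [← sub_eq_zero]
  apply nondeg_right b
  intro v
  rw [B_sub_right, ← h, ← h', sub_self]

theorem adj_add {X Y X' Y' : R K V} (h : b.Adj X Y) (h' : b.Adj X' Y') : b.Adj (X + X') (Y + Y') := by
  intro v w
  rw [LinearMap.add_apply, LinearMap.add_apply, b.add_left, b.add_right, h, h']

theorem adj_mul {X Y X' Y' : R K V} (h : b.Adj X Y) (h' : b.Adj X' Y') : b.Adj (X * X') (Y' * Y) := by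
  intro v w
  rw [Module.End.mul_apply, Module.End.mul_apply, h, h']

/-- the adjoint -/
theorem exists_st [Finite K] [FiniteDimensional K V] : ∃ st : Equiv.Perm (R K V),
    (∀ X, b.Adj X (st X)) ∧ st * st = 1 ∧ st ∈ RA K V ∧ (∀ X Y, st (X * Y) = st Y * st X) := by
  choose s hs using exists_adj b
  have hss : ∀ X, s (s X) = X := fun X => adj_unique b (hs (s X)) (adj_symm b (hs X))
  let st : Equiv.Perm (R K V) := ⟨s, s, hss, hss⟩
  have hmul : ∀ X Y, st (X * Y) = st Y * st X := fun X Y =>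
    adj_unique b (hs (X * Y)) (adj_mul b (hs X) (hs Y))
  refine ⟨st, hs, Equiv.ext hss, ⟨fun X Y => ?_, Or.inr hmul⟩, hmul⟩
  exact adj_unique b (hs (X + Y)) (adj_add b (hs X) (hs Y))

/-- the group `S × ⟨t⟩` -/
theorem exists_ext {G : Type*} [Group G] (S : Subgroup G) (hsol : Group.IsSolvable S) (t : G)
    (ht : t * t = 1) (hc : ∀ s ∈ S, t * s = s * t) : ∃ S' : Subgroup G, Group.IsSolvable S' ∧
      S ≤ S' ∧ t ∈ S' ∧ ∀ g ∈ S', ∃ s ∈ S, g = s ∨ g = s * t := by
  let φ : S × Subgroup.zpowers t →* G :=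
    S.subtype.noncommCoprod (Subgroup.zpowers t).subtype (by
      rintro ⟨s, hs⟩ ⟨z, hz⟩
      obtain ⟨k, rfl⟩ := hz
      show Commute s (t ^ k)
      exact ((show Commute t s from hc s hs).symm).zpow_right k)
  have hφ : ∀ x, φ x = (x.1 : G) * (x.2 : G) := fun x => rfl
  have h1 : Group.IsSolvable (Subgroup.zpowers t) := by
    apply Group.isSolvable_of_comm
    rintro ⟨_, ⟨i, rfl⟩⟩ ⟨_, ⟨j, rfl⟩⟩
    apply Subtype.ext
    show t ^ i * t ^ j = t ^ j * t ^ i
    rw [← zpow_add, ← zpow_add, add_comm]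
  have h2 : Group.IsSolvable (S × Subgroup.zpowers t) := inferInstance
  refine ⟨φ.range, Group.isSolvable_of_surjective φ.rangeRestrict_surjective, ?_, ?_, ?_⟩
  · intro s hs
    exact ⟨(⟨s, hs⟩, 1), by rw [hφ]; simp⟩
  · exact ⟨(1, ⟨t, Subgroup.mem_zpowers t⟩), by rw [hφ]; simp⟩
  · rintro _ ⟨⟨⟨s, hs⟩, ⟨z, hz⟩⟩, rfl⟩
    refine ⟨s, hs, ?_⟩
    rw [hφ]
    show s * z = s ∨ s * z = s * t
    obtain ⟨k, rfl⟩ := hz
    rcases Int.even_or_odd' k with ⟨j, rfl | rfl⟩
    · left
      have : t ^ (2 : ℤ) = 1 := by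
        rw [show (2 : ℤ) = ((2 : ℕ) : ℤ) by rfl, zpow_natCast, pow_two, ht]
      show s * t ^ (2 * j) = s
      rw [zpow_mul, this, one_zpow, mul_one]
    · right
      show s * t ^ (2 * j + 1) = s * t
      have : t ^ (2 : ℤ) = 1 := by
        rw [show (2 : ℤ) = ((2 : ℕ) : ℤ) by rfl, zpow_natCast, pow_two, ht]
      rw [zpow_add, zpow_mul, this, one_zpow, one_mul, zpow_one]

/-- the orthogonal complement -/
def perp (W : Submodule K V) : Submodule K V where
  carrier := {v | ∀ w ∈ W, b.B v w = 0}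
  add_mem' := by
    intro v v' hv hv' w hw
    rw [b.add_left, hv w hw, hv' w hw, add_zero]
  zero_mem' := fun w _ => B_zero_left b w
  smul_mem' := by
    intro c v hv w hw
    rw [b.smul_left, hv w hw, mul_zero]

theorem mem_perp {W : Submodule K V} {v : V} : v ∈ perp b W ↔ ∀ w ∈ W, b.B v w = 0 := Iff.rfl

variable {b}

theorem rb_st {st : Equiv.Perm (R K V)} (hst : ∀ X, b.Adj X (st X)) {f : Equiv.Perm (R K V)}
    (hf : f ∈ RB b) (X : R K V) : st (f X) = f (st X) :=
  adj_unique b (hst (f X)) ((hf.2 X (st X)).1 (hst X))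

/-- the orthogonal complement of a stable subspace is stable -/
theorem stb_perp {st : Equiv.Perm (R K V)} (hst : ∀ X, b.Adj X (st X)) {f : Equiv.Perm (R K V)}
    (hf : f ∈ RB b) {W : Submodule K V} (h : Stb f⁻¹ W) : Stb f (perp b W) := by
  intro X hX v w hw
  -- `st X` kills `W`
  have h1 : ∀ w ∈ W, st X w = 0 := by
    intro w hw
    apply nondeg_right b
    intro v
    rw [← hst X]
    exact hX v w hw
  -- an endomorphism with image in `W` whose image contains `w`
  have h2 : ∀ Z : R K V, (∀ v, Z v ∈ W) → st (f X) * Z = 0 := by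
    intro Z hZ
    have h3 : st X * f⁻¹ Z = 0 := by
      ext v
      exact h1 _ (h Z hZ v)
    have h4 : f (st X * f⁻¹ Z) = st (f X) * Z := by
      rw [hf.1.2, rb_st hst hf]
      congr 1
      exact f.apply_symm_apply Z
    rw [← h4, h3]
    exact ra_zero (RP_le_RA hf.1)
  rw [hst (f X)]
  by_cases hv : v = 0
  · rw [hv]
    exact B_zero_left b _
  obtain ⟨φ, hφ⟩ : ∃ φ : V →ₗ[K] K, φ v ≠ 0 := by
    by_contra hcon
    push Not at hcon
    exact hv ((Module.forall_dual_apply_eq_zero_iff K v).1 hcon)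
  let Z : R K V := φ.smulRight w
  have hZ : ∀ u, Z u ∈ W := fun u => W.smul_mem _ hw
  have h5 := LinearMap.congr_fun (h2 Z hZ) v
  have h6 : φ v • st (f X) w = 0 := by
    rw [← map_smul]
    exact h5
  rw [(smul_eq_zero.1 h6).resolve_left hφ]
  exact B_zero_right b v

theorem stb_inf {f : Equiv.Perm (R K V)} {W W' : Submodule K V} (h : Stb f W) (h' : Stb f W') :
    Stb f (W ⊓ W') := fun X hX v =>
  ⟨h X (fun v => (hX v).1) v, h' X (fun v => (hX v).2) v⟩

/-- reducible: isotropic or non-degenerate -/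
theorem nd_of_red {st : Equiv.Perm (R K V)} (hst : ∀ X, b.Adj X (st X))
    {S : Subgroup (Equiv.Perm (R K V))} (hS : S ≤ RB b)
    (hTI : ∀ W : Submodule K V, b.TI W → (∀ f ∈ S, Stb f W) → W = ⊥) {W : Submodule K V}
    (hW : ∀ f ∈ S, Stb f W) : b.ND W := by
  have h1 : W ⊓ perp b W = ⊥ := by
    apply hTI
    · intro v hv w hw
      exact hv.2 w hw.1
    · intro f hf
      exact stb_inf (hW f hf) (stb_perp hst (hS hf) (hW f⁻¹ (S.inv_mem hf)))
  intro v hv h
  have : v ∈ W ⊓ perp b W := ⟨hv, h⟩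
  rwa [h1, Submodule.mem_bot] at this

/-- `range (e + e')` for orthogonal idempotents -/
theorem rank_add [FiniteDimensional K V] {e e' : R K V} (he : e * e = e) (he' : e' * e' = e')
    (h : e * e' = 0) (h' : e' * e = 0) : finrank K (LinearMap.range (e + e')) =
      finrank K (LinearMap.range e) + finrank K (LinearMap.range e') := by
  have h1 : LinearMap.range (e + e') = LinearMap.range e ⊔ LinearMap.range e' := by
    apply le_antisymm
    · rintro _ ⟨v, rfl⟩
      exact Submodule.add_mem_sup ⟨v, rfl⟩ ⟨v, rfl⟩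
    · apply sup_le
      · rintro _ ⟨v, rfl⟩
        refine ⟨e v, ?_⟩
        rw [← Module.End.mul_apply, add_mul, he, h', add_zero]
      · rintro _ ⟨v, rfl⟩
        refine ⟨e' v, ?_⟩
        rw [← Module.End.mul_apply, add_mul, he', h, zero_add]
  have h2 : LinearMap.range e ⊓ LinearMap.range e' = ⊥ := by
    rw [Submodule.eq_bot_iff]
    rintro _ ⟨⟨v, rfl⟩, ⟨w, hw⟩⟩
    have h3 : e (e v) = e v := by rw [← Module.End.mul_apply, he]
    rw [← h3, ← hw, ← Module.End.mul_apply, h]
    rfl
  have h3 := Submodule.finrank_sup_add_finrank_inf_eq (LinearMap.range e) (LinearMap.range e')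
  rw [h2, finrank_bot, add_zero] at h3
  rw [h1, h3]

/-- the reducible, the orthogonal and the isotropic decompositions -/
theorem c2_cases [FiniteDimensional K V] {st : Equiv.Perm (R K V)}
    (hst : ∀ X, b.Adj X (st X)) (hst2 : ∀ X, st (st X) = X)
    (hadd : ∀ X Y, st (X + Y) = st X + st Y)
    {S : Subgroup (Equiv.Perm (R K V))} (hS : S ≤ RB b) {k d : ℕ} {e : Fin k → R K V} (hk : 2 ≤ k)
    (hd : 1 ≤ d) (he : CompleteOrthogonalIdempotents e)
    (hr : ∀ i, finrank K (LinearMap.range (e i)) = d)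
    (hp : ∀ f ∈ S, ∃ π : Equiv.Perm (Fin k), ∀ i, f (e i) = e (π i))
    (hσ : ∃ σ : Equiv.Perm (Fin k), ∀ i, st (e i) = e (σ i)) :
    (∃ W : Submodule K V, W ≠ ⊥ ∧ W ≠ ⊤ ∧ ∀ f ∈ S, Stb f W) ∨
    (∃ (k d : ℕ) (e : Fin k → R K V), 2 ≤ k ∧ 1 ≤ d ∧ CompleteOrthogonalIdempotents e ∧
      (∀ i, b.Adj (e i) (e i)) ∧ (∀ i, Module.finrank K (LinearMap.range (e i)) = d) ∧
      ∀ f ∈ S, ∃ π : Equiv.Perm (Fin k), ∀ i, f (e i) = e (π i)) ∨
    (∃ e : Fin 2 → R K V, CompleteOrthogonalIdempotents e ∧ b.Adj (e 0) (e 1) ∧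
      ∀ f ∈ S, ∃ π : Equiv.Perm (Fin 2), ∀ i, f (e i) = e (π i)) := by
  classical
  obtain ⟨σ, hσ⟩ := hσ
  have heid : ∀ i, e i * e i = e i := fun i => he.idem i
  have heor : ∀ i j, i ≠ j → e i * e j = 0 := fun i j h => he.ortho h
  have he0 : ∀ i, e i ≠ 0 := by
    intro i h
    have h1 := hr i
    rw [h, LinearMap.range_zero, finrank_bot] at h1
    omega
  have heinj : ∀ i j, e i = e j → i = j := by
    intro i j h
    by_contra hij
    have h1 := heor i j hij
    rw [← h, heid] at h1
    exact he0 i h1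
  have hσσ : ∀ i, σ (σ i) = i := by
    intro i
    apply heinj
    rw [← hσ, ← hσ, hst2]
  have hcomm : ∀ f ∈ S, ∀ π : Equiv.Perm (Fin k), (∀ i, f (e i) = e (π i)) →
      ∀ i, σ (π i) = π (σ i) := by
    intro f hf π hπ i
    apply heinj
    rw [← hσ, ← hπ, ← hπ, ← hσ, rb_st hst (hS hf)]
  by_cases hall : ∀ i, σ i = i
  · right; left
    refine ⟨k, d, e, hk, hd, he, fun i => ?_, hr, hp⟩
    have := hst (e i)
    rwa [hσ, hall] at this
  by_cases hsome : ∃ i, σ i = i
  · -- the fixed ones
    left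
    push Not at hall
    obtain ⟨j, hj⟩ := hall
    obtain ⟨i, hi⟩ := hsome
    set s := ∑ l ∈ Finset.univ.filter (fun l => σ l = l), e l with hs
    have hsm : ∀ l, s * e l = if σ l = l then e l else 0 := by
      intro l
      rw [hs, Finset.sum_mul]
      split_ifs with h
      · rw [Finset.sum_eq_single l]
        · exact heid l
        · intro l' _ hl'
          exact heor _ _ hl'
        · intro h'
          exfalso
          apply h'
          rw [Finset.mem_filter]
          exact ⟨Finset.mem_univ _, h⟩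
      · apply Finset.sum_eq_zero
        intro l' hl'
        apply heor
        rintro rfl
        exact h (Finset.mem_filter.1 hl').2
    have hms : ∀ l, σ l ≠ l → e l * s = 0 := by
      intro l hl
      rw [hs, Finset.mul_sum]
      apply Finset.sum_eq_zero
      intro l' hl'
      apply heor
      rintro rfl
      exact hl (Finset.mem_filter.1 hl').2
    have hss : s * s = s := by
      conv_lhs => rw [hs, Finset.mul_sum]
      refine Finset.sum_congr rfl fun l hl => ?_
      rw [hsm, if_pos (Finset.mem_filter.1 hl).2]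
    refine ⟨LinearMap.range s, ?_, ?_, ?_⟩
    · intro h
      rw [LinearMap.range_eq_bot] at h
      have h1 := hsm i
      rw [if_pos hi, h, zero_mul] at h1
      exact he0 i h1.symm
    · intro h
      apply he0 j
      ext v
      have h3 : v ∈ LinearMap.range s := by rw [h]; trivial
      obtain ⟨w, rfl⟩ := h3
      rw [← Module.End.mul_apply, hms j hj]
      rfl
    · intro f hf
      apply stb_of_idem (hS hf).1 hss
      obtain ⟨π, hπ⟩ := hp f hf
      rw [hs, ra_sum (RP_le_RA (hS hf).1)]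
      refine Finset.sum_nbij' (fun l => π l) (fun l => π.symm l) ?_ ?_ ?_ ?_ ?_
      · intro l hl
        rw [Finset.mem_filter] at hl ⊢
        exact ⟨Finset.mem_univ _, by rw [hcomm f hf π hπ, hl.2]⟩
      · intro l hl
        rw [Finset.mem_filter] at hl ⊢
        refine ⟨Finset.mem_univ _, ?_⟩
        apply π.injective
        rw [← hcomm f hf π hπ, Equiv.apply_symm_apply, hl.2]
      · intro l _
        exact π.symm_apply_apply l
      · intro l _
        exact π.apply_symm_apply l
      · intro l _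
        exact hπ l
  -- no fixed points
  push Not at hsome
  by_cases hk2 : k = 2
  · subst hk2
    right; right
    refine ⟨e, he, ?_, hp⟩
    have h1 : σ 0 = 1 := by
      have h2 := hsome 0
      have h3 : σ 0 = 0 ∨ σ 0 = 1 := by
        generalize σ 0 = x
        fin_cases x <;> simp
      rcases h3 with h3 | h3
      · exact absurd h3 h2
      · exact h3
    have := hst (e 0)
    rwa [hσ, h1] at this
  · right; left
    let g : Fin k → R K V := fun i => e i + e (σ i)
    have hg : ∀ i, g i = e i + e (σ i) := fun i => rfl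
    let T := Finset.univ.image g
    have hT : ∀ x, x ∈ T ↔ ∃ i, g i = x := by
      intro x
      simp [T]
    have hge : ∀ i j, g i * e j = if j = i ∨ j = σ i then e j else 0 := by
      intro i j
      rw [hg, add_mul]
      split_ifs with h
      · rcases h with rfl | rfl
        · rw [heid, heor _ _ (hsome j), add_zero]
        · rw [heid, heor _ _ (hsome i).symm, zero_add]
      · push Not at h
        rw [heor _ _ (Ne.symm h.1), heor _ _ (Ne.symm h.2), add_zero]
    have hgσ : ∀ i, g (σ i) = g i := by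
      intro i
      rw [hg, hg, hσσ, add_comm]
    have hgeq : ∀ i j, g i = g j → j = i ∨ j = σ i := by
      intro i j h
      by_contra hcon
      have h1 := hge i j
      rw [if_neg hcon, h, hge, if_pos (Or.inl rfl)] at h1
      exact he0 j h1
    have hgg : ∀ i, g i * g i = g i := by
      intro i
      conv_lhs => rw [hg i, mul_add]
      rw [← hg i, hge, hge, if_pos (Or.inl rfl), if_pos (Or.inr rfl)]
    have hgor : ∀ i j, g i ≠ g j → g i * g j = 0 := by
      intro i j h
      have h1 : ¬ (j = i ∨ j = σ i) := by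
        rintro (rfl | rfl)
        · exact h rfl
        · exact h (hgσ i).symm
      have h2 : ¬ (σ j = i ∨ σ j = σ i) := by
        rintro (h2 | h2)
        · apply h
          rw [← h2, hgσ]
        · exact h1 (Or.inl (σ.injective h2))
      conv_lhs => rw [hg j, mul_add]
      rw [hge, hge, if_neg h1, if_neg h2, add_zero]
    let k' := T.card
    let ε := T.equivFin
    let e' : Fin k' → R K V := fun i => (ε.symm i : R K V)
    have he'T : ∀ i, e' i ∈ T := fun i => (ε.symm i).2
    have he'inj : ∀ i j, e' i = e' j → i = j := fun i j h => ε.symm.injective (Subtype.ext h)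
    refine ⟨k', d + d, e', ?_, by omega, ?_, ?_, ?_, ?_⟩
    · -- at least two pairs
      by_contra hcon
      have h1 : T.card ≤ 1 := by
        have : ¬ 2 ≤ T.card := hcon
        omega
      have h2 : ∀ i j, g i = g j := fun i j =>
        Finset.card_le_one.1 h1 _ ((hT _).2 ⟨i, rfl⟩) _ ((hT _).2 ⟨j, rfl⟩)
      have h3 : (Finset.univ : Finset (Fin k)) ⊆ {⟨0, by omega⟩, σ ⟨0, by omega⟩} := by
        intro j _
        rw [Finset.mem_insert, Finset.mem_singleton]
        exact hgeq _ j (h2 _ _)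
      have h4 := Finset.card_le_card h3
      rw [Finset.card_univ, Fintype.card_fin] at h4
      have h5 := Finset.card_le_two (a := (⟨0, by omega⟩ : Fin k)) (b := σ ⟨0, by omega⟩)
      omega
    · rw [CompleteOrthogonalIdempotents.iff_ortho_complete]
      refine ⟨fun i j hij => ?_, ?_⟩
      · obtain ⟨i', hi'⟩ := (hT _).1 (he'T i)
        obtain ⟨j', hj'⟩ := (hT _).1 (he'T j)
        show e' i * e' j = 0
        rw [← hi', ← hj']
        apply hgor
        intro h
        apply hij
        apply he'inj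
        rw [← hi', ← hj', h]
      · have h1 : ∑ i, e' i = ∑ x ∈ T, x := by
          rw [← Finset.sum_coe_sort T]
          exact Equiv.sum_comp ε.symm (fun x : T => (x : R K V))
        rw [h1]
        have h2 : ∀ j, (∑ x ∈ T, x) * e j = e j := by
          intro j
          rw [Finset.sum_mul, Finset.sum_eq_single (g j)]
          · rw [hge, if_pos (Or.inl rfl)]
          · intro x hx hxj
            obtain ⟨i, rfl⟩ := (hT x).1 hx
            rw [hge, if_neg]
            rintro (rfl | rfl)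
            · exact hxj rfl
            · exact hxj (hgσ i).symm
          · intro h
            exact absurd ((hT _).2 ⟨j, rfl⟩) h
        calc (∑ x ∈ T, x) = (∑ x ∈ T, x) * ∑ j, e j := by rw [he.complete, mul_one]
          _ = ∑ j, e j := by
              rw [Finset.mul_sum]
              exact Finset.sum_congr rfl fun j _ => h2 j
          _ = 1 := he.complete
    · intro i
      obtain ⟨i', hi'⟩ := (hT _).1 (he'T i)
      rw [← hi']
      have h1 := hst (g i')
      have h2 : st (g i') = g i' := by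
        rw [hg, hadd, hσ, hσ, hσσ, add_comm]
      rwa [h2] at h1
    · intro i
      obtain ⟨i', hi'⟩ := (hT _).1 (he'T i)
      rw [← hi', hg, rank_add (heid _) (heid _) (heor _ _ (hsome i').symm) (heor _ _ (hsome i')),
        hr, hr]
    · intro f hf
      have hfT : ∀ f ∈ S, ∀ x ∈ T, f x ∈ T := by
        intro f hf x hx
        obtain ⟨i, rfl⟩ := (hT x).1 hx
        obtain ⟨π, hπ⟩ := hp f hf
        rw [hT]
        refine ⟨π i, ?_⟩
        rw [hg, hg, ra_add (RP_le_RA (hS hf).1), hπ, hπ, hcomm f hf π hπ]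
      let F : T ≃ T :=
        { toFun := fun x => ⟨f x, hfT f hf x x.2⟩
          invFun := fun x => ⟨f⁻¹ (x : R K V), hfT f⁻¹ (S.inv_mem hf) x x.2⟩
          left_inv := fun x => Subtype.ext (f.symm_apply_apply _)
          right_inv := fun x => Subtype.ext (f.apply_symm_apply _) }
      refine ⟨(ε.symm.trans F).trans ε, fun i => ?_⟩
      show f (ε.symm i : R K V) = (ε.symm (ε (F (ε.symm i))) : R K V)
      rw [Equiv.symm_apply_apply]
      rfl

end

/-- **B-CL** -/
theorem stmtBClass : StmtBClass.{u, v} := by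
  intro K _ _ V _ _ _ b hbig S hS hsol hne
  have hn3 : 3 ≤ finrank K V := by
    rcases hbig with ⟨_, h, _⟩ | ⟨_, h, _⟩ <;> omega
  have : Nontrivial V := Module.nontrivial_of_finrank_pos (R := K) (by omega)
  obtain ⟨st, hst, hst2, hstRA, hstm⟩ := exists_st b
  have hst2' : ∀ X, st (st X) = X := fun X => Equiv.congr_fun hst2 X
  have hcm : ∀ s ∈ S, st * s = s * st := by
    intro s hs
    apply Equiv.ext
    intro X
    exact rb_st hst (hS hs) X
  obtain ⟨S', hsol', hSS', hstS', hdec⟩ := exists_ext S hsol st hst2 hcm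
  have hSRP : S ≤ RP K V := fun f hf => (hS hf).1
  have hS'RA : S' ≤ RA K V := by
    intro g hg
    obtain ⟨s, hs, rfl | rfl⟩ := hdec g hg
    · exact RP_le_RA (hSRP hs)
    · exact (RA K V).mul_mem (RP_le_RA (hSRP hs)) hstRA
  by_cases hTI : ∃ W : Submodule K V, W ≠ ⊥ ∧ b.TI W ∧ ∀ f ∈ S, Stb f W
  · exact Or.inl hTI
  right
  have hTI' : ∀ W : Submodule K V, b.TI W → (∀ f ∈ S, Stb f W) → W = ⊥ := by
    intro W h1 h2
    by_contra h3
    exact hTI ⟨W, h3, h1, h2⟩
  refine ⟨hTI', ?_⟩
  have hred : ∀ W : Submodule K V, W ≠ ⊥ → W ≠ ⊤ → (∀ f ∈ S, Stb f W) →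
      (∃ W : Submodule K V, W ≠ ⊥ ∧ W ≠ ⊤ ∧ b.ND W ∧ ∀ f ∈ S, Stb f W) := fun W h1 h2 h3 =>
    ⟨W, h1, h2, nd_of_red hst hS hTI' h3, h3⟩
  rcases stmtClass K V S' (by omega) hS'RA (fun h => by omega) hsol' (by
      intro h
      apply hne
      rw [eq_bot_iff, ← h]
      exact inf_le_inf_right _ hSS') with h | h | h | h | h
  · obtain ⟨W, h1, h2, h3⟩ := h
    exact Or.inl (hred W h1 h2 fun f hf => h3 f (hSS' hf) (hSRP hf))
  · obtain ⟨k, d, e, hk, hd, he, hr, hp⟩ := h
    rcases c2_cases hst hst2' (fun X Y => ra_add hstRA X Y) hS hk hd he hr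
        (fun f hf => hp f (hSS' hf)) (hp st hstS') with h | h | h
    · obtain ⟨W, h1, h2, h3⟩ := h
      exact Or.inl (hred W h1 h2 h3)
    · exact Or.inr (Or.inl h)
    · exact Or.inr (Or.inr (Or.inl h))
  · obtain ⟨E, hE, hEp, hEf⟩ := h
    exact Or.inr (Or.inr (Or.inr (Or.inl ⟨E, hE, hEp, fun X hX => ⟨st X, hEf st hstS' X hX, hst X⟩,
      fun f hf => hEf f (hSS' hf)⟩)))
  · obtain ⟨u', y, Φ, hu, hy, h⟩ := h
    refine Or.inr (Or.inr (Or.inr (Or.inr (Or.inl ⟨u', y, Φ, hu, hy, fun B => ?_,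
      fun f hf => h f (hSS' hf)⟩))))
    obtain ⟨B', hB'⟩ := h st hstS' B
    refine ⟨B', ?_⟩
    rw [← hB']
    exact hst _
  · obtain ⟨A, r, a, hr, ha, hfr, hAS, hAI, hcard, hAr, hab, hspan, hnorm, hmin⟩ := h
    have hAS2 : A ≤ S := by
      intro g hg
      obtain ⟨s, hs, h | h⟩ := hdec g (hAS hg)
      · rw [h]; exact hs
      · exfalso
        -- `st` would be a ring automorphism
        have h1 : st ∈ RP K V := by
          have h2 : st = s⁻¹ * g := by rw [h, inv_mul_cancel_left]
          rw [h2]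
          exact (RP K V).mul_mem ((RP K V).inv_mem (hSRP hs)) (IN_le_RP (hAI hg))
        have h2 : ∀ X Y : R K V, X * Y = Y * X := by
          intro X Y
          apply st.injective
          rw [hstm X Y, ← h1.2 Y X]
        have h3 : finrank K (R K V) ≤ 1 := by
          apply finrank_le_one (1 : R K V)
          intro X
          obtain ⟨c, hc⟩ := exists_scalar_of_central X (h2 X)
          exact ⟨c, hc.symm⟩
        rw [Module.finrank_linearMap] at h3
        nlinarith
    refine Or.inr (Or.inr (Or.inr (Or.inr (Or.inr ⟨A, r, a, hr, ha, hfr, hAS2, hAI, hcard, hAr, hab,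
      hspan, fun g hg => hnorm g (hSS' hg), ?_⟩))))
    intro B hB hi
    apply hmin B hB
    intro g hg f hf
    obtain ⟨s, hs, rfl | rfl⟩ := hdec g hg
    · exact hi _ hs f hf
    · have h1 : s * st * f * (s * st)⁻¹ = s * f * s⁻¹ := by
        rw [mul_inv_rev, mul_assoc s st f, hcm f (hAS2 (hB hf))]
        simp only [mul_assoc, mul_inv_cancel_left]
      rw [h1]
      exact hi s hs f hf

end Cfsg.Agent.H886.FC
end
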