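import Cfsg.Agent.H886.FC.ClassB
import Cfsg.Agent.H786.FC.PartsC4
import Mathlib
import Cfsg.Agent.H198.FC.Defs
import Cfsg.Agent.H786.FC.Parts
import Cfsg.Agent.H567.FC.Main
import Cfsg.Agent.S2904
set_option linter.all false

-- part: H376/FC/ClassNe
section
/-!
# S5764: `StmtClass` with `(u' : K) ≠ 0` in the tensor case (helper376; proof: helper886's)
-/

set_option autoImplicit false

universe u v

namespace Cfsg.Agent.H376.FC

open Module Cfsg.Agent.H198.FC Cfsg.Agent.H886.FC

/-- `StmtClass` with `(u' : K) ≠ 0` in the tensor case -/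
def StmtClassNe : Prop :=
  ∀ (K : Type u) [Field K] [Finite K] (V : Type v) [AddCommGroup V] [Module K V] [Module.Finite K V]
    (S : Subgroup (Equiv.Perm (R K V))), 2 ≤ Module.finrank K V → S ≤ RA K V →
    (Module.finrank K V = 2 → S ≤ RP K V) → Group.IsSolvable S → S ⊓ IN K V ≠ ⊥ →
    (∃ W : Submodule K V, W ≠ ⊥ ∧ W ≠ ⊤ ∧ ∀ f ∈ S, f ∈ RP K V → Stb f W) ∨
    (∃ (k d : ℕ) (e : Fin k → R K V), 2 ≤ k ∧ 1 ≤ d ∧ CompleteOrthogonalIdempotents e ∧
      (∀ i, Module.finrank K (LinearMap.range (e i)) = d) ∧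
      ∀ f ∈ S, ∃ π : Equiv.Perm (Fin k), ∀ i, f (e i) = e (π i)) ∨
    (∃ E : Subalgebra K (R K V), IsField E ∧ (Module.finrank K E).Prime ∧ ∀ f ∈ S, ∀ X ∈ E, f X ∈ E) ∨
    (∃ (u' y : ℕ) (Φ : Matrix (Fin u' × Fin y) (Fin u' × Fin y) K ≃ₐ[K] R K V), 2 ≤ u' ∧ 2 ≤ y ∧ (u' : K) ≠ 0 ∧
      ∀ f ∈ S, ∀ B : Matrix (Fin u') (Fin u') K, ∃ B' : Matrix (Fin u') (Fin u') K,
        f (Φ (Matrix.kroneckerMap (· * ·) B (1 : Matrix (Fin y) (Fin y) K))) =
          Φ (Matrix.kroneckerMap (· * ·) B' (1 : Matrix (Fin y) (Fin y) K))) ∨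
    (∃ (A : Subgroup (Equiv.Perm (R K V))) (r a : ℕ), C6Data S A r a)

section

variable {K : Type u} [Field K] {V : Type v} [AddCommGroup V] [Module K V]

theorem noncomm_ne [Finite K] [FiniteDimensional K V] [Nontrivial V]
    {S A : Subgroup (Equiv.Perm (R K V))} (hS : S ≤ RA K V) {r : ℕ} (hr : r.Prime) (hrK : (r : K) ≠ 0)
    (hA0 : A ≠ ⊥) (hA : A ≤ IN K V) (hAS' : A ≤ S) (hAS : ∀ f ∈ S, ∀ a ∈ A, f * a * f⁻¹ ∈ A)
    (hmin : ∀ B : Subgroup (Equiv.Perm (R K V)), B ≤ A → (∀ g ∈ S, ∀ f ∈ B, g * f * g⁻¹ ∈ B) →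
      B = ⊥ ∨ B = A)
    (hab : ∀ a ∈ A, ∀ b ∈ A, a * b = b * a) (hAr : ∀ a ∈ A, a ^ r = 1)
    (hc : ¬ ∀ X ∈ Lf A, ∀ Y ∈ Lf A, X * Y = Y * X) :
    (∃ (u' y : ℕ) (Φ : Matrix (Fin u' × Fin y) (Fin u' × Fin y) K ≃ₐ[K] R K V), 2 ≤ u' ∧ 2 ≤ y ∧ (u' : K) ≠ 0 ∧
      ∀ f ∈ S, ∀ B : Matrix (Fin u') (Fin u') K, ∃ B' : Matrix (Fin u') (Fin u') K,
        f (Φ (Matrix.kroneckerMap (· * ·) B (1 : Matrix (Fin y) (Fin y) K))) =
          Φ (Matrix.kroneckerMap (· * ·) B' (1 : Matrix (Fin y) (Fin y) K))) ∨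
    (∃ a : ℕ, C6Data S A r a) := by
  classical
  have : Fact r.Prime := ⟨hr⟩
  have : Finite V := Module.finite_of_finite K
  have : Finite (R K V) := Module.finite_of_finite K
  -- the radical
  let C : Subgroup (R K V)ˣ :=
    { carrier := {x | cj K V x ∈ A ∧ ∀ Y ∈ Lf A, (x : R K V) * Y = Y * x}
      mul_mem' := by
        rintro x y ⟨hx, hx'⟩ ⟨hy, hy'⟩
        refine ⟨by rw [map_mul]; exact A.mul_mem hx hy, fun Y hY => ?_⟩
        rw [Units.val_mul, mul_assoc, hy' Y hY, ← mul_assoc, hx' Y hY, mul_assoc]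
      one_mem' := ⟨by rw [map_one]; exact A.one_mem, fun Y _ => by
        rw [Units.val_one, one_mul, mul_one]⟩
      inv_mem' := by
        rintro x ⟨hx, hx'⟩
        refine ⟨by rw [map_inv]; exact A.inv_mem hx, fun Y hY => ?_⟩
        have h1 := hx' Y hY
        calc ((x⁻¹ : (R K V)ˣ) : R K V) * Y
            = ((x⁻¹ : (R K V)ˣ) : R K V) * (Y * x) * ((x⁻¹ : (R K V)ˣ) : R K V) := by
              rw [mul_assoc, mul_assoc, Units.mul_inv, mul_one]
          _ = ((x⁻¹ : (R K V)ˣ) : R K V) * (x * Y) * ((x⁻¹ : (R K V)ˣ) : R K V) := by rw [h1]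
          _ = Y * ((x⁻¹ : (R K V)ˣ) : R K V) := by
              rw [← mul_assoc, Units.inv_mul, one_mul] }
  have hC : ∀ x, x ∈ C ↔ cj K V x ∈ A ∧ ∀ Y ∈ Lf A, (x : R K V) * Y = Y * x := fun x => Iff.rfl
  have hCf : ∀ f (hf : f ∈ S), ∀ x ∈ C, fU f (hS hf) x ∈ C := by
    intro f hf x hx
    refine (hC _).2 ⟨fU_mem (hS hf) (hAS f hf) hx.1, fun Y hY => ?_⟩
    have h1 : f⁻¹ Y ∈ Lf A := map_lf (inv_mem (hS hf)) (norm_inv hAS hf) hY
    have h2 := ra_comm (hS hf) (hx.2 _ h1)
    rw [show f (f⁻¹ Y) = Y from f.apply_symm_apply Y] at h2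
    exact h2
  let B : Subgroup (Equiv.Perm (R K V)) := C.map (cj K V)
  have hBA : B ≤ A := by
    rintro _ ⟨x, hx, rfl⟩
    exact hx.1
  have hBS : ∀ g ∈ S, ∀ f ∈ B, g * f * g⁻¹ ∈ B := by
    rintro g hg _ ⟨x, hx, rfl⟩
    rcases (hS hg).2 with h | h
    · rw [conj_cj_rp (hS hg) h]
      exact ⟨_, hCf g hg x hx, rfl⟩
    · rw [conj_cj_anti (hS hg) h]
      exact B.inv_mem ⟨_, hCf g hg x hx, rfl⟩
  have hB : B = ⊥ := by
    rcases hmin B hBA hBS with h | h
    · exact h
    · exfalso
      apply hc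
      rintro _ ⟨x, rfl, hx⟩ Y hY
      rw [← h] at hx
      obtain ⟨x', hx', hxx⟩ := hx
      have h1 : cj K V (x * x'⁻¹) = 1 := by rw [map_mul, map_inv, hxx, mul_inv_cancel]
      obtain ⟨c, hcc⟩ := cj_eq_one h1
      have h2 : (x : R K V) = c • (x' : R K V) := by
        have h3 : (x : R K V) = ((x * x'⁻¹ : (R K V)ˣ) : R K V) * (x' : R K V) := by
          rw [← Units.val_mul, inv_mul_cancel_right]
        rw [h3, hcc, smul_mul_assoc, one_mul]
      rw [h2, smul_mul_assoc, mul_smul_comm, hx'.2 Y hY]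
  have hrad : ∀ x : (R K V)ˣ, cj K V x ∈ A → (∀ Y ∈ Lf A, (x : R K V) * Y = Y * x) →
      cj K V x = 1 := by
    intro x hx hx'
    have h1 : cj K V x ∈ B := ⟨x, ⟨hx, hx'⟩, rfl⟩
    rwa [hB, Subgroup.mem_bot] at h1
  -- the lifts
  have hex : ∀ a : A, ∃ x : (R K V)ˣ, cj K V x = a := fun a => hA a.2
  choose lam hlam using hex
  obtain ⟨χ, hχ⟩ := exists_chi lam hlam hab
  obtain ⟨m, hm0, ψ, hcard⟩ := exists_matrix lam hlam hab hrad χ hχ
  have hcA : 1 < Nat.card A := by
    have h1 : Nat.card A ≠ 1 := fun h => hA0 (Subgroup.card_eq_one.1 h)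
    have h2 : 0 < Nat.card A := Nat.card_pos
    omega
  have hm2 : 2 ≤ m := by
    by_contra h
    have h1 : m = 1 := by omega
    rw [h1] at hcard
    omega
  obtain ⟨y, Φ, hΦ, hfr⟩ := exists_tensor m ⟨0, hm0⟩ ((DA A).val.comp (ψ : _ →ₐ[K] _))
  have hΦ' : ∀ B : Matrix (Fin m) (Fin m) K,
      Φ (Matrix.kroneckerMap (· * ·) B (1 : Matrix (Fin y) (Fin y) K)) = (ψ B : R K V) := hΦ
  have hn0 : 0 < finrank K V := Module.finrank_pos
  have hy0 : y ≠ 0 := by
    rintro rfl
    omega
  by_cases hy : 2 ≤ y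
  · left
    have hmK : (m : K) ≠ 0 := by
      have hpA : IsPGroup r A := by
        intro a
        refine ⟨1, ?_⟩
        rw [pow_one]
        exact Subtype.ext (hAr a a.2)
      obtain ⟨N, hN⟩ := IsPGroup.iff_card.1 hpA
      obtain ⟨a, _, ha⟩ := (Nat.dvd_prime_pow hr).1 (show m ∣ r ^ N by
        rw [← hN, hcard]; exact dvd_mul_right m m)
      rw [ha, Nat.cast_pow]
      exact pow_ne_zero _ hrK
    refine ⟨m, y, Φ, hm2, hy, hmK, fun f hf B => ?_⟩
    rw [hΦ']
    have h1 : f (ψ B : R K V) ∈ DA A := map_DA (hS hf) (hAS f hf) (ψ B).2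
    refine ⟨ψ.symm ⟨_, h1⟩, ?_⟩
    rw [hΦ', AlgEquiv.apply_symm_apply]
  · right
    have hy1 : y = 1 := by omega
    rw [hy1, mul_one] at hfr
    have hpA : IsPGroup r A := by
      intro a
      refine ⟨1, ?_⟩
      rw [pow_one]
      exact Subtype.ext (hAr a a.2)
    obtain ⟨N, hN⟩ := IsPGroup.iff_card.1 hpA
    obtain ⟨a, _, ha⟩ := (Nat.dvd_prime_pow hr).1 (show m ∣ r ^ N by
      rw [← hN, hcard]; exact dvd_mul_right m m)
    have ha1 : 1 ≤ a := by
      rw [Nat.one_le_iff_ne_zero]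
      rintro rfl
      rw [pow_zero] at ha
      omega
    refine ⟨a, hr, ha1, by rw [hfr, ha], hAS', hA, ?_, hAr, hab, ?_, fun g hg f hf => hAS g hg f hf,
      fun B hB hi => hmin B hB hi⟩
    · rw [hcard, ha, ← pow_add]
      congr 1
      ring
    · have h1 := DA_eq_span A
      have h2 : finrank K (DA A) = finrank K (R K V) := by
        rw [finrank_DA lam hlam hab hrad χ hχ, hcard, Module.finrank_linearMap, hfr]
      have h3 : (DA A).toSubmodule = ⊤ := Submodule.eq_top_of_finrank_eq h2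
      rw [← h3, h1]
      rfl

end

/-- **L-CL** with `u' ≠ 0` in `K` in the tensor case -/
theorem stmtClassNe : StmtClassNe.{u, v} := by
  intro K _ _ V _ _ _ S hn hS _ hsol hne
  have : Nontrivial V := Module.nontrivial_of_finrank_pos (R := K) (by omega)
  have : Finite V := Module.finite_of_finite K
  have : Finite (R K V) := Module.finite_of_finite K
  have hINn : ∀ g ∈ S, ∀ a ∈ S ⊓ IN K V, g * a * g⁻¹ ∈ S ⊓ IN K V := by
    rintro g hg _ ⟨ha, ⟨x, rfl⟩⟩
    refine ⟨S.mul_mem (S.mul_mem hg ha) (S.inv_mem hg), ?_⟩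
    rcases (hS hg).2 with h | h
    · rw [conj_cj_rp (hS hg) h]
      exact ⟨_, rfl⟩
    · rw [conj_cj_anti (hS hg) h]
      exact (IN K V).inv_mem ⟨_, rfl⟩
  obtain ⟨A, r, hr, hA0, hAN, hAS, hmin, hab, hAr⟩ :=
    exists_minimal S (S ⊓ IN K V) hsol hne inf_le_left hINn
  have hA : A ≤ IN K V := hAN.trans inf_le_right
  have hAS' : A ≤ S := hAN.trans inf_le_left
  by_cases hrK : (r : K) = 0
  · exact Or.inl (red_of_char hS hr hA0 hA hAS hab hAr hrK)
  by_cases hc : ∀ X ∈ Lf A, ∀ Y ∈ Lf A, X * Y = Y * X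
  · by_cases hP : ∀ e ∈ Prim A, e = 1
    · -- field
      right; right; left
      obtain ⟨Q, hQ, hQd⟩ := exists_Q hr hrK hAr hc
      have hf := isField_DA hc hQ hQd hP
      have hbot : DA A ≠ ⊥ := by
        intro hbot
        apply hA0
        rw [Subgroup.eq_bot_iff_forall]
        intro a ha
        obtain ⟨x, rfl⟩ := hA ha
        have h1 : (x : R K V) ∈ DA A := lf_le_DA ⟨x, rfl, ha⟩
        rw [hbot, Algebra.mem_bot] at h1
        obtain ⟨c, hcc⟩ := h1
        apply cj_scalar (c := c)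
        rw [← hcc, Algebra.algebraMap_eq_smul_one]
      obtain ⟨E, hE, hEp, hEf⟩ := exists_sub (DA A) hf hbot
      exact ⟨E, hE, hEp, fun f hf X hX => hEf f (hS hf) (fun X hX => map_DA (hS hf) (hAS f hf) hX) X hX⟩
    · push Not at hP
      obtain ⟨e₂, he₂, hne₂⟩ := hP
      rcases comm_many (by omega) hS hAS hc he₂ hne₂ with h | h
      · exact Or.inl h
      · exact Or.inr (Or.inl h)
  · rcases noncomm_ne hS hr hrK hA0 hA hAS' hAS hmin hab hAr hc with h | ⟨a, h⟩
    · exact Or.inr (Or.inr (Or.inr (Or.inl h)))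
    · exact Or.inr (Or.inr (Or.inr (Or.inr ⟨A, r, a, h⟩)))

end Cfsg.Agent.H376.FC
end

-- part: H886/FC/ClassBN
section
/-!
# S5764: the classifications `StmtClassN` and `StmtBClassN` (first tensor factor prime to the characteristic)

`StmtClassN` is helper376's `stmtClassNe`; `StmtBClassN` follows from it as `StmtBClass` follows from `StmtClass`: the
adjoint `st` is an element of `RA` commuting with `RB b`, and `StmtClassN` is applied to `S × ⟨st⟩`.
-/

set_option autoImplicit false

universe u v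

namespace Cfsg.Agent.H886.FC

open Module Cfsg.Agent.H198.FC

/-- **L-CL**, with `(u' : K) ≠ 0` -/
theorem stmtClassN : H786.FC.StmtClassN.{u, v} := H376.FC.stmtClassNe.{u, v}

/-- **B-CL**, with `(u' : K) ≠ 0` -/
theorem stmtBClassN : H786.FC.StmtBClassN.{u, v} := by
  intro K _ _ V _ _ _ b hbig S hS hsol hne
  have hn3 : 3 ≤ finrank K V := by
    rcases hbig with ⟨_, h, _⟩ | ⟨_, h, _⟩ <;> omega
  have : Nontrivial V := Module.nontrivial_of_finrank_pos (R := K) (by omega)
  obtain ⟨st, hst, hst2, hstRA, hstm⟩ := exists_st b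
  have hst2' : ∀ X, st (st X) = X := fun X => Equiv.congr_fun hst2 X
  have hcm : ∀ s ∈ S, st * s = s * st := by
    intro s hs
    apply Equiv.ext
    intro X
    exact rb_st hst (hS hs) X
  obtain ⟨S', hsol', hSS', hstS', hdec⟩ := exists_ext S hsol st hst2 hcm
  have hSRP : S ≤ RP K V := fun f hf => (hS hf).1
  have hS'RA : S' ≤ RA K V := by
    intro g hg
    obtain ⟨s, hs, rfl | rfl⟩ := hdec g hg
    · exact RP_le_RA (hSRP hs)
    · exact (RA K V).mul_mem (RP_le_RA (hSRP hs)) hstRA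
  by_cases hTI : ∃ W : Submodule K V, W ≠ ⊥ ∧ b.TI W ∧ ∀ f ∈ S, Stb f W
  · exact Or.inl hTI
  right
  have hTI' : ∀ W : Submodule K V, b.TI W → (∀ f ∈ S, Stb f W) → W = ⊥ := by
    intro W h1 h2
    by_contra h3
    exact hTI ⟨W, h3, h1, h2⟩
  refine ⟨hTI', ?_⟩
  have hred : ∀ W : Submodule K V, W ≠ ⊥ → W ≠ ⊤ → (∀ f ∈ S, Stb f W) →
      (∃ W : Submodule K V, W ≠ ⊥ ∧ W ≠ ⊤ ∧ b.ND W ∧ ∀ f ∈ S, Stb f W) := fun W h1 h2 h3 =>
    ⟨W, h1, h2, nd_of_red hst hS hTI' h3, h3⟩
  rcases stmtClassN K V S' (by omega) hS'RA (fun h => by omega) hsol' (by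
      intro h
      apply hne
      rw [eq_bot_iff, ← h]
      exact inf_le_inf_right _ hSS') with h | h | h | h | h
  · obtain ⟨W, h1, h2, h3⟩ := h
    exact Or.inl (hred W h1 h2 fun f hf => h3 f (hSS' hf) (hSRP hf))
  · obtain ⟨k, d, e, hk, hd, he, hr, hp⟩ := h
    rcases c2_cases hst hst2' (fun X Y => ra_add hstRA X Y) hS hk hd he hr
        (fun f hf => hp f (hSS' hf)) (hp st hstS') with h | h | h
    · obtain ⟨W, h1, h2, h3⟩ := h
      exact Or.inl (hred W h1 h2 h3)
    · exact Or.inr (Or.inl h)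
    · exact Or.inr (Or.inr (Or.inl h))
  · obtain ⟨E, hE, hEp, hEf⟩ := h
    exact Or.inr (Or.inr (Or.inr (Or.inl ⟨E, hE, hEp, fun X hX => ⟨st X, hEf st hstS' X hX, hst X⟩,
      fun f hf => hEf f (hSS' hf)⟩)))
  · obtain ⟨u', y, Φ, hu, hy, huK, h⟩ := h
    refine Or.inr (Or.inr (Or.inr (Or.inr (Or.inl ⟨u', y, Φ, hu, hy, huK, fun B => ?_,
      fun f hf => h f (hSS' hf)⟩))))
    obtain ⟨B', hB'⟩ := h st hstS' B
    refine ⟨B', ?_⟩
    rw [← hB']
    exact hst _
  · obtain ⟨A, r, a, hr, ha, hfr, hAS, hAI, hcard, hAr, hab, hspan, hnorm, hmin⟩ := h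
    have hAS2 : A ≤ S := by
      intro g hg
      obtain ⟨s, hs, h | h⟩ := hdec g (hAS hg)
      · rw [h]; exact hs
      · exfalso
        -- `st` would be a ring automorphism
        have h1 : st ∈ RP K V := by
          have h2 : st = s⁻¹ * g := by rw [h, inv_mul_cancel_left]
          rw [h2]
          exact (RP K V).mul_mem ((RP K V).inv_mem (hSRP hs)) (IN_le_RP (hAI hg))
        have h2 : ∀ X Y : R K V, X * Y = Y * X := by
          intro X Y
          apply st.injective
          rw [hstm X Y, ← h1.2 Y X]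
        have h3 : finrank K (R K V) ≤ 1 := by
          apply finrank_le_one (1 : R K V)
          intro X
          obtain ⟨c, hc⟩ := exists_scalar_of_central X (h2 X)
          exact ⟨c, hc.symm⟩
        rw [Module.finrank_linearMap] at h3
        nlinarith
    refine Or.inr (Or.inr (Or.inr (Or.inr (Or.inr ⟨A, r, a, hr, ha, hfr, hAS2, hAI, hcard, hAr, hab,
      hspan, fun g hg => hnorm g (hSS' hg), ?_⟩))))
    intro B hB hi
    apply hmin B hB
    intro g hg f hf
    obtain ⟨s, hs, rfl | rfl⟩ := hdec g hg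
    · exact hi _ hs f hf
    · have h1 : s * st * f * (s * st)⁻¹ = s * f * s⁻¹ := by
        rw [mul_inv_rev, mul_assoc s st f, hcm f (hAS2 (hB hf))]
        simp only [mul_assoc, mul_inv_cancel_left]
      rw [h1]
      exact hi s hs f hf

end Cfsg.Agent.H886.FC
end

-- part: H245/FC/Model
section
/-!
# S5764, L-C3b: the model `R = End_K(F × F)`, `F / K` quadratic (helper245)
-/

set_option autoImplicit false

namespace Cfsg.Agent.H245.FC

universe u v

/-- a quadratic extension of finite fields: the involution `τ` and a generator `γ` -/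
structure Dat (K : Type u) (F : Type v) [Field K] [Field F] [Algebra K F] where
  τ : F ≃ₐ[K] F
  invol : ∀ a, τ (τ a) = a
  gal : ∀ φ : F →ₐ[K] F, (∀ a, φ a = a) ∨ (∀ a, φ a = τ a)
  comm : ∀ (σ : F →+* F) (a : F), σ (τ a) = τ (σ a)
  γ : F
  gen : ∀ a : F, a = 0 ∨ ∃ k : ℕ, a = γ ^ k
  ne : τ γ ≠ γ

theorem exists_dat (K : Type u) (F : Type v) [Field K] [Finite K] [Field F] [Finite F] [Algebra K F]
    (h : Module.finrank K F = 2) : Nonempty (Dat K F) := by
  classical
  have := Fintype.ofFinite K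
  have := Fintype.ofFinite F
  let τ : F ≃ₐ[K] F := FiniteField.frobeniusAlgEquivOfAlgebraic K F
  have hτ : ∀ a, τ a = a ^ Fintype.card K := fun a => rfl
  have hcard : Fintype.card F = Fintype.card K ^ 2 := by
    rw [Module.card_eq_pow_finrank (K := K) (V := F), h]
  have hinv : ∀ a, τ (τ a) = a := by
    intro a
    rw [hτ, hτ, ← pow_mul, ← sq, ← hcard]
    exact FiniteField.pow_card a
  obtain ⟨g, hg⟩ := IsCyclic.exists_generator (α := Fˣ)
  have hgen : ∀ a : F, a = 0 ∨ ∃ k : ℕ, a = (g : F) ^ k := by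
    intro a
    by_cases ha : a = 0
    · exact Or.inl ha
    right
    obtain ⟨k, hk⟩ := (mem_powers_iff_mem_zpowers (x := g)).2 (hg (Units.mk0 a ha))
    refine ⟨k, ?_⟩
    have := congrArg (fun u : Fˣ => (u : F)) hk
    simpa using this.symm
  have hne : τ (g : F) ≠ g := by
    intro h1
    -- `τ` would be trivial
    have h2 : ∀ a, τ a = a := by
      intro a
      rcases hgen a with rfl | ⟨k, rfl⟩
      · exact map_zero τ
      · rw [map_pow, h1]
    have h3 : Fintype.card F ≤ Fintype.card K := by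
      have h4 : (Polynomial.X ^ Fintype.card K - Polynomial.X : Polynomial F) ≠ 0 :=
        FiniteField.X_pow_card_sub_X_ne_zero F Fintype.one_lt_card
      have h5 : (Polynomial.X ^ Fintype.card K - Polynomial.X : Polynomial F).natDegree = Fintype.card K :=
        FiniteField.X_pow_card_sub_X_natDegree_eq F Fintype.one_lt_card
      have h6 : (Finset.univ : Finset F) ⊆ (Polynomial.X ^ Fintype.card K - Polynomial.X : Polynomial F).roots.toFinset := by
        intro a _
        rw [Multiset.mem_toFinset, Polynomial.mem_roots h4, Polynomial.IsRoot.def]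
        simp only [Polynomial.eval_sub, Polynomial.eval_pow, Polynomial.eval_X]
        rw [← hτ, h2, sub_self]
      calc Fintype.card F = (Finset.univ : Finset F).card := rfl
        _ ≤ _ := Finset.card_le_card h6
        _ ≤ _ := Multiset.toFinset_card_le _
        _ ≤ _ := Polynomial.card_roots' _
        _ = _ := h5
    rw [hcard] at h3
    have h4 : 1 < Fintype.card K := Fintype.one_lt_card
    nlinarith
  have hgal : ∀ φ : F →ₐ[K] F, (∀ a, φ a = a) ∨ (∀ a, φ a = τ a) := by
    intro φ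
    have hbij : Function.Bijective φ := Finite.injective_iff_bijective.1 φ.injective
    let φ' : F ≃ₐ[K] F := AlgEquiv.ofBijective φ hbij
    obtain ⟨i, hi⟩ := (FiniteField.bijective_frobeniusAlgEquivOfAlgebraic_pow K F).2 φ'
    have h1 : ∀ a, φ a = (τ ^ (i : ℕ)) a := fun a => (congrArg (fun ψ : F ≃ₐ[K] F => ψ a) hi).symm
    have h2 : (i : ℕ) < 2 := lt_of_lt_of_eq i.2 h
    rcases Nat.lt_succ_iff_lt_or_eq.1 h2 with h3 | h3
    · left
      intro a
      rw [h1, show (i : ℕ) = 0 by omega, pow_zero]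
      rfl
    · right
      intro a
      rw [h1, h3, pow_one]
  exact ⟨⟨τ, hinv, hgal, fun σ a => by rw [hτ, hτ, map_pow], g, hgen, hne⟩⟩

section

variable {K : Type u} {F : Type v} [Field K] [Field F] [Algebra K F]

/-- the scalars of `F` on `F × F` -/
def sc (K : Type u) {F : Type v} [Field K] [Field F] [Algebra K F] : F →ₐ[K] Module.End K (F × F) :=
  Algebra.lsmul K K (F × F)

@[simp] theorem sc_apply (a : F) (v : F × F) : sc K a v = (a * v.1, a * v.2) := rfl

/-- diagonal idempotents -/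
def e1 (K : Type u) (F : Type v) [Field K] [Field F] [Algebra K F] : Module.End K (F × F) where
  toFun v := (v.1, 0)
  map_add' v w := by simp
  map_smul' a v := by simp

def e2 (K : Type u) (F : Type v) [Field K] [Field F] [Algebra K F] : Module.End K (F × F) where
  toFun v := (0, v.2)
  map_add' v w := by simp
  map_smul' a v := by simp

@[simp] theorem e1_apply (v : F × F) : e1 K F v = (v.1, 0) := rfl
@[simp] theorem e2_apply (v : F × F) : e2 K F v = (0, v.2) := rfl

namespace Dat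

variable (D : Dat K F)

def y1 : Module.End K (F × F) where
  toFun v := (D.τ v.2, 0)
  map_add' v w := by simp
  map_smul' a v := by simp

def y2 : Module.End K (F × F) where
  toFun v := (0, D.γ * D.τ v.1)
  map_add' v w := by simp [mul_add]
  map_smul' a v := by simp

def y3 : Module.End K (F × F) where
  toFun v := (D.τ v.1 - D.τ v.2, D.τ v.1 - D.τ v.2)
  map_add' v w := by ext <;> simp <;> ring
  map_smul' a v := by ext <;> simp [smul_sub]

def y4 : Module.End K (F × F) where
  toFun v := (D.τ D.γ * D.τ v.1 - D.τ v.2, D.γ * (D.τ D.γ * D.τ v.1 - D.τ v.2))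
  map_add' v w := by ext <;> simp <;> ring
  map_smul' a v := by ext <;> simp [smul_sub, mul_sub]

@[simp] theorem y1_apply (v : F × F) : D.y1 v = (D.τ v.2, 0) := rfl
@[simp] theorem y2_apply (v : F × F) : D.y2 v = (0, D.γ * D.τ v.1) := rfl
@[simp] theorem y3_apply (v : F × F) : D.y3 v = (D.τ v.1 - D.τ v.2, D.τ v.1 - D.τ v.2) := rfl
@[simp] theorem y4_apply (v : F × F) :
    D.y4 v = (D.τ D.γ * D.τ v.1 - D.τ v.2, D.γ * (D.τ D.γ * D.τ v.1 - D.τ v.2)) := rfl

theorem γ0 : D.γ ≠ 0 := fun h => D.ne (by rw [h, map_zero])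

theorem τγ0 : D.τ D.γ ≠ 0 := fun h => D.γ0 (by rw [← D.invol D.γ, h, map_zero])

/-- `y` is `F`-semilinear -/
def SL (y : Module.End K (F × F)) : Prop := ∀ a : F, y * sc K a = sc K (D.τ a) * y

theorem sl1 : D.SL D.y1 := fun a => by ext v <;> simp
theorem sl2 : D.SL D.y2 := fun a => by ext v <;> simp [mul_left_comm]
theorem sl3 : D.SL D.y3 := fun a => by ext v <;> simp
theorem sl4 : D.SL D.y4 := fun a => by ext v <;> simp [mul_comm, mul_left_comm]

theorem sq1 : D.y1 * D.y1 = 0 := by ext v <;> simp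
theorem sq2 : D.y2 * D.y2 = 0 := by ext v <;> simp
theorem sq3 : D.y3 * D.y3 = 0 := by ext v <;> simp
theorem sq4 : D.y4 * D.y4 = 0 := by ext v <;> simp [D.invol, mul_comm]

end Dat

theorem sc_inj {a b : F} (h : sc K a = sc K b) : a = b := by
  have h1 := LinearMap.congr_fun h ((1 : F), (0 : F))
  simpa using h1

theorem sc_mul (a b : F) : sc K (a * b) = sc K a * sc K b := map_mul _ a b

theorem sc_add (a b : F) : sc K (a + b) = sc K a + sc K b := map_add _ a b

theorem sc_mul_inj {a b : F} {m : Module.End K (F × F)} (hm : IsUnit m) (h : sc K a * m = sc K b * m) : a = b :=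
  sc_inj (hm.mul_right_cancel h)

namespace Dat

variable (D : Dat K F)

/-- elements normalizing the scalars are linear or semilinear -/
theorem pure {m : Module.End K (F × F)} (hm : IsUnit m) (h : ∀ a : F, ∃ b : F, m * sc K a = sc K b * m) :
    (∀ a : F, m * sc K a = sc K a * m) ∨ ∀ a : F, m * sc K a = sc K (D.τ a) * m := by
  choose φ hφ using h
  let ψ : F →ₐ[K] F :=
    { toFun := φ
      map_one' := by
        apply sc_mul_inj hm
        rw [← hφ, map_one, mul_one, one_mul]
      map_mul' := fun a b => by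
        apply sc_mul_inj hm
        rw [← hφ, map_mul, map_mul, ← mul_assoc, hφ, mul_assoc, hφ, mul_assoc]
      map_zero' := by
        apply sc_mul_inj hm
        rw [← hφ, map_zero, mul_zero, zero_mul]
      map_add' := fun a b => by
        apply sc_mul_inj hm
        rw [← hφ, map_add, map_add, mul_add, hφ, hφ, add_mul]
      commutes' := fun k => by
        apply sc_mul_inj hm
        rw [← hφ, AlgHom.commutes, Algebra.commutes] }
  rcases D.gal ψ with h1 | h1
  · left
    intro a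
    rw [hφ]
    congr 2
    exact h1 a
  · right
    intro a
    rw [hφ]
    congr 2
    exact h1 a

/-- The key lemma: `(1 + y)(1 - z)` normalizes the scalars only for `z = y`. -/
theorem eq_of_norm {y z : Module.End K (F × F)} (hy : D.SL y) (hz : D.SL z) (hyy : y * y = 0)
    (hm : IsUnit ((1 + y) * (1 - z)))
    (h : ∀ a : F, ∃ b : F, (1 + y) * (1 - z) * sc K a = sc K b * ((1 + y) * (1 - z))) : z = y := by
  -- decomposition of `m` in a linear part `1 - y z` and a semilinear part `y - z`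
  have hyz : ∀ a, y * z * sc K a = sc K a * (y * z) := fun a => by
    rw [mul_assoc, hz a, ← mul_assoc, hy, D.invol, mul_assoc]
  have hm0 : (1 + y) * (1 - z) = (1 - y * z) + (y - z) := by
    rw [mul_sub, mul_one, add_mul, one_mul]
    abel
  have hne : D.γ - D.τ D.γ ≠ 0 := fun h0 => D.ne (sub_eq_zero.1 h0).symm
  rcases D.pure hm h with h1 | h1
  · have h2 := h1 D.γ
    rw [hm0] at h2
    have h3 : (sc K (D.γ - D.τ D.γ)) * (y - z) = 0 := by
      have e1 : (1 - y * z + (y - z)) * sc K D.γ = sc K D.γ * (1 - y * z) + sc K (D.τ D.γ) * (y - z) := by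
        rw [add_mul, sub_mul, one_mul, hyz, sub_mul, hy, hz, mul_sub, mul_sub, mul_one]
      rw [e1, mul_add] at h2
      rw [map_sub, sub_mul, sub_eq_zero]
      exact (add_left_cancel h2).symm
    have h4 : sc K (D.γ - D.τ D.γ)⁻¹ * (sc K (D.γ - D.τ D.γ) * (y - z)) = 0 := by rw [h3, mul_zero]
    rw [← mul_assoc, ← map_mul, inv_mul_cancel₀ hne, map_one, one_mul, sub_eq_zero] at h4
    exact h4.symm
  · exfalso
    have h2 := h1 D.γ
    rw [hm0] at h2
    have h3 : (sc K (D.γ - D.τ D.γ)) * (1 - y * z) = 0 := by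
      have e1 : (1 - y * z + (y - z)) * sc K D.γ = sc K D.γ * (1 - y * z) + sc K (D.τ D.γ) * (y - z) := by
        rw [add_mul, sub_mul, one_mul, hyz, sub_mul, hy, hz, mul_sub, mul_sub, mul_one]
      rw [e1, mul_add] at h2
      rw [map_sub, sub_mul, sub_eq_zero]
      exact add_right_cancel h2
    have h4 : sc K (D.γ - D.τ D.γ)⁻¹ * (sc K (D.γ - D.τ D.γ) * (1 - y * z)) = 0 := by rw [h3, mul_zero]
    rw [← mul_assoc, ← map_mul, inv_mul_cancel₀ hne, map_one, one_mul, sub_eq_zero] at h4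
    have h5 : y * (1 : Module.End K (F × F)) = 0 := by rw [h4, ← mul_assoc, hyy, zero_mul]
    rw [mul_one] at h5
    rw [h5, zero_mul] at h4
    exact one_ne_zero h4

/-! ### automorphisms and anti-automorphisms -/

theorem hom_id {σ : F →+* F} (h : σ D.γ = D.γ) (a : F) : σ a = a := by
  rcases D.gen a with rfl | ⟨k, rfl⟩
  · exact map_zero σ
  · rw [map_pow, h]

theorem hom_τ {σ : F →+* F} (h : σ D.γ = D.τ D.γ) (a : F) : σ a = D.τ a := by
  rcases D.gen a with rfl | ⟨k, rfl⟩
  · rw [map_zero, map_zero]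
  · rw [map_pow, map_pow, h]

/-- every `K`-linear map of `F` is `x ↦ a x + b τ(x)` -/
theorem exists_form [Finite K] [Finite F] (hf : Module.finrank K F = 2) (g : F →ₗ[K] F) :
    ∃ a b : F, ∀ x, g x = a * x + b * D.τ x := by
  have : Module.Finite K F := Module.Finite.of_finite
  let Λ : (F × F) →ₗ[K] (F →ₗ[K] F) :=
    { toFun := fun p => { toFun := fun x => p.1 * x + p.2 * D.τ x
                          map_add' := fun x y => by rw [map_add]; ring
                          map_smul' := fun k x => by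
                            rw [map_smul, RingHom.id_apply, smul_add, mul_smul_comm, mul_smul_comm] }
      map_add' := fun p q => by
        ext x
        show (p.1 + q.1) * x + (p.2 + q.2) * D.τ x = (p.1 * x + p.2 * D.τ x) + (q.1 * x + q.2 * D.τ x)
        ring
      map_smul' := fun k p => by
        ext x
        show (k • p.1) * x + (k • p.2) * D.τ x = k • (p.1 * x + p.2 * D.τ x)
        rw [smul_mul_assoc, smul_mul_assoc, smul_add] }
  have hinj : Function.Injective Λ := by
    rw [← LinearMap.ker_eq_bot, LinearMap.ker_eq_bot']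
    rintro ⟨a, b⟩ h0
    have h1 : a * 1 + b * D.τ 1 = 0 := LinearMap.congr_fun h0 1
    have h2 : a * D.γ + b * D.τ D.γ = 0 := LinearMap.congr_fun h0 D.γ
    rw [map_one, mul_one, mul_one] at h1
    have h3 : a = -b := eq_neg_of_add_eq_zero_left h1
    have h4 : b * (D.τ D.γ - D.γ) = 0 := by rw [h3] at h2; linear_combination h2
    have h5 : b = 0 := by
      rcases mul_eq_zero.1 h4 with h | h
      · exact h
      · exact absurd (sub_eq_zero.1 h) D.ne
    rw [h5, neg_zero] at h3
    rw [h3, h5]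
    rfl
  have hdim : Module.finrank K (F × F) = Module.finrank K (F →ₗ[K] F) := by
    rw [Module.finrank_prod, Module.finrank_linearMap, hf]
  obtain ⟨⟨a, b⟩, hab⟩ := (LinearMap.injective_iff_surjective_of_finrank_eq_finrank hdim).1 hinj g
  exact ⟨a, b, fun x => (LinearMap.congr_fun hab x).symm⟩

/-- A multiplicative additive map fixing the scalars and `y₁, y₂, y₃` is the identity. -/
theorem auto_eq [Finite K] [Finite F] (hf : Module.finrank K F = 2) {f : Module.End K (F × F) → Module.End K (F × F)}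
    (hadd : ∀ X Y, f (X + Y) = f X + f Y) (hmul : ∀ X Y, f (X * Y) = f X * f Y) {σ : F →+* F}
    (hσ : ∀ a, f (sc K a) = sc K (σ a)) (h1 : f D.y1 = D.y1) (h2 : f D.y2 = D.y2) (h3 : f D.y3 = D.y3)
    (X : Module.End K (F × F)) : f X = X := by
  have hneg : ∀ X, f (-X) = -f X := by
    intro X
    have h4 : f 0 = 0 := by
      have := hadd 0 0
      rw [add_zero] at this
      exact left_eq_add.1 this
    have h5 := hadd X (-X)
    rw [add_neg_cancel, h4] at h5
    exact (neg_eq_of_add_eq_zero_right h5.symm).symm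
  -- `σ = 1`
  have hσγ : σ D.γ = D.γ := by
    have h4 : D.y1 * D.y2 * (D.y1 * D.y2) = sc K (D.τ D.γ) * (D.y1 * D.y2) := by
      ext v <;> simp [D.invol]
    have h5 := congrArg f h4
    rw [hmul, hmul (sc K (D.τ D.γ)), hmul D.y1, h1, h2, hσ, h4] at h5
    have h6 := LinearMap.congr_fun h5 ((1 : F), (0 : F))
    have h7 : D.τ D.γ * D.τ D.γ = σ (D.τ D.γ) * D.τ D.γ := by simpa using congrArg Prod.fst h6
    have h8 := mul_right_cancel₀ D.τγ0 h7
    rw [D.comm] at h8
    exact (D.τ.injective h8).symm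
  have hs : ∀ a, f (sc K a) = sc K a := fun a => by rw [hσ, D.hom_id hσγ]
  have he1 : f (e1 K F) = e1 K F := by
    have h4 : e1 K F = sc K (D.τ D.γ)⁻¹ * (D.y1 * D.y2) := by
      ext v <;> simp [D.invol, D.τγ0]
    rw [h4, hmul, hs, hmul, h1, h2]
  have he2 : f (e2 K F) = e2 K F := by
    have h4 : e2 K F = sc K D.γ⁻¹ * (D.y2 * D.y1) := by
      ext v <;> simp [D.invol, D.γ0]
    rw [h4, hmul, hs, hmul, h1, h2]
  -- `T`
  obtain ⟨T, hT, hfT⟩ : ∃ T : Module.End K (F × F), (∀ v, T v = (D.τ v.1, D.τ v.2)) ∧ f T = T := by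
    refine ⟨e1 K F * D.y3 * e1 K F + -(e2 K F * D.y3 * e2 K F), fun v => ?_, ?_⟩
    · simp
    · rw [hadd, hneg, hmul, hmul, hmul, hmul, he1, he2, h3]
  obtain ⟨e12, he12, hf12⟩ : ∃ e : Module.End K (F × F), (∀ v, e v = (v.2, 0)) ∧ f e = e := by
    refine ⟨D.y1 * T, fun v => ?_, by rw [hmul, h1, hfT]⟩
    rw [Module.End.mul_apply, hT, y1_apply, D.invol]
  obtain ⟨e21, he21, hf21⟩ : ∃ e : Module.End K (F × F), (∀ v, e v = (0, v.1)) ∧ f e = e := by
    refine ⟨sc K D.γ⁻¹ * (D.y2 * T), fun v => ?_, by rw [hmul, hmul, h2, hfT, hs]⟩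
    rw [Module.End.mul_apply, Module.End.mul_apply, hT, y2_apply, D.invol, sc_apply, mul_zero,
      inv_mul_cancel_left₀ D.γ0]
  obtain ⟨a11, b11, h11⟩ := D.exists_form hf ((LinearMap.fst K F F) ∘ₗ X ∘ₗ (LinearMap.inl K F F))
  obtain ⟨a12, b12, h12⟩ := D.exists_form hf ((LinearMap.fst K F F) ∘ₗ X ∘ₗ (LinearMap.inr K F F))
  obtain ⟨a21, b21, h21⟩ := D.exists_form hf ((LinearMap.snd K F F) ∘ₗ X ∘ₗ (LinearMap.inl K F F))
  obtain ⟨a22, b22, h22⟩ := D.exists_form hf ((LinearMap.snd K F F) ∘ₗ X ∘ₗ (LinearMap.inr K F F))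
  have hX : X = sc K a11 * e1 K F + sc K b11 * (e1 K F * T) + (sc K a12 * e12 + sc K b12 * (e12 * T)) +
      (sc K a21 * e21 + sc K b21 * (e21 * T)) + (sc K a22 * e2 K F + sc K b22 * (e2 K F * T)) := by
    apply LinearMap.ext
    intro v
    have hv : X v = X (v.1, 0) + X (0, v.2) := by
      rw [← map_add]
      simp
    have k11 : (X (v.1, 0)).1 = a11 * v.1 + b11 * D.τ v.1 := h11 v.1
    have k12 : (X (0, v.2)).1 = a12 * v.2 + b12 * D.τ v.2 := h12 v.2
    have k21 : (X (v.1, 0)).2 = a21 * v.1 + b21 * D.τ v.1 := h21 v.1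
    have k22 : (X (0, v.2)).2 = a22 * v.2 + b22 * D.τ v.2 := h22 v.2
    rw [hv]
    apply Prod.ext
    · simp only [Prod.fst_add, LinearMap.add_apply, Module.End.mul_apply, sc_apply, e1_apply, e2_apply, he12, he21, hT,
        k11, k12]
      ring
    · simp only [Prod.snd_add, LinearMap.add_apply, Module.End.mul_apply, sc_apply, e1_apply, e2_apply, he12, he21, hT,
        k21, k22]
      ring
  rw [hX]
  simp only [hadd, hmul, hs, he1, he2, hf12, hf21, hfT]

/-- There is no anti-automorphism mapping `yᵢ` to `-yᵢ`, `i = 1, …, 4`. -/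
theorem anti_false {f : Module.End K (F × F) → Module.End K (F × F)}
    (hmul : ∀ X Y, f (X * Y) = f Y * f X) {σ : F →+* F}
    (hσ : ∀ a, f (sc K a) = sc K (σ a)) (h1 : f D.y1 = -D.y1) (h2 : f D.y2 = -D.y2) (h3 : f D.y3 = -D.y3)
    (h4 : f D.y4 = -D.y4) : False := by
  have hu : f (D.y1 * D.y2) = D.y2 * D.y1 := by rw [hmul, h1, h2]; ext v <;> simp
  have hu' : f (D.y2 * D.y1) = D.y1 * D.y2 := by rw [hmul, h1, h2]; ext v <;> simp
  -- `σ = τ`
  have hσγ : σ D.γ = D.τ D.γ := by
    have h5 : D.y1 * D.y2 * (D.y1 * D.y2) = sc K (D.τ D.γ) * (D.y1 * D.y2) := by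
      ext v <;> simp [D.invol]
    have h6 := congrArg f h5
    rw [hmul, hmul (sc K (D.τ D.γ)), hu, hσ] at h6
    have h7 := LinearMap.congr_fun h6 ((0 : F), (1 : F))
    have h8 : D.γ * D.γ = D.γ * σ (D.τ D.γ) := by simpa [D.invol, D.comm] using congrArg Prod.snd h7
    have h9 := mul_left_cancel₀ D.γ0 h8
    rw [D.comm] at h9
    have h10 := congrArg D.τ h9
    rw [D.invol] at h10
    exact h10.symm
  have hs : ∀ a, f (sc K a) = sc K (D.τ a) := fun a => by rw [hσ, D.hom_τ hσγ]
  have he1 : f (e1 K F) = e2 K F := by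
    have h5 : e1 K F = sc K (D.τ D.γ)⁻¹ * (D.y1 * D.y2) := by
      ext v <;> simp [D.invol, D.τγ0]
    rw [h5, hmul, hs, hu]
    ext v <;> simp [D.invol, D.γ0]
  have he2 : f (e2 K F) = e1 K F := by
    have h5 : e2 K F = sc K D.γ⁻¹ * (D.y2 * D.y1) := by
      ext v <;> simp [D.invol, D.γ0]
    rw [h5, hmul, hs, hu']
    ext v <;> simp [D.invol, D.γ0]
  have h5 : e1 K F * D.y4 * e1 K F = sc K (D.τ D.γ) * (e1 K F * D.y3 * e1 K F) := by
    ext v <;> simp
  have h6 := congrArg f h5
  rw [hmul, hmul, he1, h4, hmul, hmul, hmul, he1, h3, hs] at h6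
  have h7 := LinearMap.congr_fun h6 ((0 : F), (1 : F))
  have h8 : D.γ = D.τ D.γ := by simpa [D.invol] using congrArg Prod.snd h7
  exact D.ne h8.symm

/-- **The model theorem.** -/
theorem model [Finite K] [Finite F] (hf : Module.finrank K F = 2) (f : Equiv.Perm (Module.End K (F × F)))
    (hadd : ∀ X Y, f (X + Y) = f X + f Y)
    (hm : (∀ X Y, f (X * Y) = f X * f Y) ∨ ∀ X Y, f (X * Y) = f Y * f X)
    (hE : ∀ a : F, ∃ b : F, f (sc K a) = sc K b)
    (hx : ∀ y, (y = D.y1 ∨ y = D.y2 ∨ y = D.y3 ∨ y = D.y4) → ∀ a : F, ∃ b : F,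
      (1 + y) * f ((1 - y) * sc K a * (1 + y)) * (1 - y) = sc K b) : f = 1 := by
  have hf0 : f 0 = 0 := by
    have := hadd 0 0
    rw [add_zero] at this
    exact left_eq_add.1 this
  have hneg : ∀ X, f (-X) = -f X := by
    intro X
    have h5 := hadd X (-X)
    rw [add_neg_cancel, hf0] at h5
    exact (neg_eq_of_add_eq_zero_right h5.symm).symm
  have hf1 : f 1 = 1 := by
    obtain ⟨Z, hZ⟩ := f.surjective 1
    rcases hm with hm | hm
    · have h1 := hm Z 1
      rw [mul_one, hZ, one_mul] at h1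
      exact h1.symm
    · have h1 := hm 1 Z
      rw [one_mul, hZ, one_mul] at h1
      exact h1.symm
  -- `σ`
  choose φ hφ using hE
  have hφmul : ∀ a b, φ (a * b) = φ a * φ b := by
    intro a b
    apply sc_inj (K := K)
    rw [← hφ, sc_mul]
    rcases hm with hm | hm
    · rw [hm, hφ, hφ, sc_mul]
    · rw [hm, hφ, hφ, ← sc_mul, mul_comm]
  let σ : F →+* F :=
    { toFun := φ
      map_one' := by
        apply sc_inj (K := K)
        rw [← hφ, map_one, hf1]
      map_mul' := hφmul
      map_zero' := by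
        apply sc_inj (K := K)
        rw [← hφ, map_zero, hf0]
      map_add' := fun a b => by
        apply sc_inj (K := K)
        rw [← hφ, sc_add, sc_add, hadd, hφ, hφ] }
  have hσ : ∀ a, f (sc K a) = sc K (σ a) := hφ
  have hσs : Function.Surjective σ := Finite.surjective_of_injective σ.injective
  have hunit : ∀ y : Module.End K (F × F), y * y = 0 → (1 + y) * (1 - y) = 1 ∧ (1 - y) * (1 + y) = 1 := by
    intro y hy
    constructor
    · rw [mul_sub, mul_one, add_mul, one_mul, hy, add_zero, add_sub_cancel_right]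
    · rw [mul_add, mul_one, sub_mul, one_mul, hy, sub_zero, sub_add_cancel]
  rcases hm with hm | hm
  · -- automorphisms
    have key : ∀ y, D.SL y → y * y = 0 → (y = D.y1 ∨ y = D.y2 ∨ y = D.y3 ∨ y = D.y4) → f y = y := by
      intro y hys hyy hy
      have hzs : D.SL (f y) := by
        intro a
        obtain ⟨b, rfl⟩ := hσs a
        rw [← hσ, ← hm, hys, hm, hσ, D.comm]
      have hzz : f y * f y = 0 := by rw [← hm, hyy, hf0]
      obtain ⟨u1, u2⟩ := hunit y hyy
      obtain ⟨w1, w2⟩ := hunit (f y) hzz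
      refine D.eq_of_norm hys hzs hyy ?_ ?_
      · exact ⟨⟨(1 + y) * (1 - f y), (1 + f y) * (1 - y), by
          calc (1 + y) * (1 - f y) * ((1 + f y) * (1 - y)) = (1 + y) * ((1 - f y) * (1 + f y)) * (1 - y) := by
                simp only [mul_assoc]
            _ = 1 := by rw [w2, mul_one, u1], by
          calc (1 + f y) * (1 - y) * ((1 + y) * (1 - f y)) = (1 + f y) * ((1 - y) * (1 + y)) * (1 - f y) := by
                simp only [mul_assoc]
            _ = 1 := by rw [u2, mul_one, w1]⟩, rfl⟩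
      · intro a
        obtain ⟨b, rfl⟩ := hσs a
        obtain ⟨c, hc⟩ := hx y hy b
        refine ⟨c, ?_⟩
        have e1 : f (1 - y) = 1 - f y := by rw [sub_eq_add_neg, hadd, hneg, hf1, ← sub_eq_add_neg]
        have e2 : f (1 + y) = 1 + f y := by rw [hadd, hf1]
        rw [hm, hm, e1, e2, hσ] at hc
        rw [← hc]
        calc (1 + y) * (1 - f y) * sc K (σ b)
            = (1 + y) * (1 - f y) * sc K (σ b) * (((1 + f y) * ((1 - y) * (1 + y))) * (1 - f y)) := by
              rw [u2, mul_one, w1, mul_one]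
          _ = (1 + y) * ((1 - f y) * sc K (σ b) * (1 + f y)) * (1 - y) * ((1 + y) * (1 - f y)) := by
              simp only [mul_assoc]
    apply Equiv.ext
    intro X
    exact D.auto_eq hf hadd hm hσ (key _ D.sl1 D.sq1 (Or.inl rfl)) (key _ D.sl2 D.sq2 (Or.inr (Or.inl rfl)))
      (key _ D.sl3 D.sq3 (Or.inr (Or.inr (Or.inl rfl)))) X
  · -- anti-automorphisms
    exfalso
    have key : ∀ y, D.SL y → y * y = 0 → (y = D.y1 ∨ y = D.y2 ∨ y = D.y3 ∨ y = D.y4) → f y = -y := by
      intro y hys hyy hy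
      have hys' : ∀ a, sc K a * y = y * sc K (D.τ a) := fun a => by rw [hys, D.invol]
      have hzs : D.SL (f y) := by
        intro a
        obtain ⟨b, rfl⟩ := hσs a
        rw [← hσ, ← hm, hys', hm, hσ, D.comm]
      have hzs' : D.SL (-f y) := by
        intro a
        apply LinearMap.ext
        intro v
        have := LinearMap.congr_fun (hzs a) v
        simp only [Module.End.mul_apply, LinearMap.neg_apply, map_neg] at this ⊢
        rw [this]
      have hzz : f y * f y = 0 := by rw [← hm, hyy, hf0]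
      obtain ⟨u1, u2⟩ := hunit y hyy
      obtain ⟨w1, w2⟩ := hunit (f y) hzz
      have h1 : -f y = y := by
        refine D.eq_of_norm hys hzs' hyy ?_ ?_
        · rw [sub_neg_eq_add]
          exact ⟨⟨(1 + y) * (1 + f y), (1 - f y) * (1 - y), by
            calc (1 + y) * (1 + f y) * ((1 - f y) * (1 - y)) = (1 + y) * ((1 + f y) * (1 - f y)) * (1 - y) := by
                  simp only [mul_assoc]
              _ = 1 := by rw [w1, mul_one, u1], by
            calc (1 - f y) * (1 - y) * ((1 + y) * (1 + f y)) = (1 - f y) * ((1 - y) * (1 + y)) * (1 + f y) := by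
                  simp only [mul_assoc]
              _ = 1 := by rw [u2, mul_one, w2]⟩, rfl⟩
        · intro a
          rw [sub_neg_eq_add]
          obtain ⟨b, rfl⟩ := hσs a
          obtain ⟨c, hc⟩ := hx y hy b
          refine ⟨c, ?_⟩
          have e1 : f (1 - y) = 1 - f y := by rw [sub_eq_add_neg, hadd, hneg, hf1, ← sub_eq_add_neg]
          have e2 : f (1 + y) = 1 + f y := by rw [hadd, hf1]
          rw [hm, hm, e1, e2, hσ] at hc
          rw [← hc]
          calc (1 + y) * (1 + f y) * sc K (σ b)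
              = (1 + y) * (1 + f y) * sc K (σ b) * (((1 - f y) * ((1 - y) * (1 + y))) * (1 + f y)) := by
                rw [u2, mul_one, w2, mul_one]
            _ = (1 + y) * ((1 + f y) * (sc K (σ b) * (1 - f y))) * (1 - y) * ((1 + y) * (1 + f y)) := by
                simp only [mul_assoc]
      rw [← neg_neg (f y), h1]
    exact D.anti_false hm hσ (key _ D.sl1 D.sq1 (Or.inl rfl)) (key _ D.sl2 D.sq2 (Or.inr (Or.inl rfl)))
      (key _ D.sl3 D.sq3 (Or.inr (Or.inr (Or.inl rfl)))) (key _ D.sl4 D.sq4 (Or.inr (Or.inr (Or.inr rfl))))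

end Dat

end

end Cfsg.Agent.H245.FC
end

-- part: H245/FC/CThree
section
/-!
# S5764, L-C3b: `StmtC3` for `dim V = 4`, `[E : K] = 2` (helper245)
-/

set_option autoImplicit false

namespace Cfsg.Agent.H245.FC

open Cfsg.Agent.H198.FC

universe u v w

theorem one_add_pow {A : Type*} [Ring A] {y : A} (hy : y * y = 0) (n : ℕ) : (1 + y) ^ n = 1 + n • y := by
  induction n with
  | zero => simp
  | succ n ih => rw [pow_succ, ih, add_mul, one_mul, smul_mul_assoc, mul_add, mul_one, hy, add_zero, add_assoc,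
      ← succ_nsmul']

theorem det_one_add {K : Type u} [Field K] [Finite K] {V : Type v} [AddCommGroup V] [Module K V]
    {y : Module.End K V} (hy : y * y = 0) : LinearMap.det (1 + y) = 1 := by
  obtain ⟨p, hp⟩ := CharP.exists K
  have hpp : p.Prime := CharP.char_is_prime K p
  have : Fact p.Prime := ⟨hpp⟩
  have h1 : (1 + y) ^ p = 1 := by
    rw [one_add_pow hy, ← Nat.cast_smul_eq_nsmul K, CharP.cast_eq_zero, zero_smul, add_zero]
  have h2 : LinearMap.det (1 + y) ^ p = 1 := by
    rw [← map_pow, h1, map_one]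
  have h3 : frobenius K p (LinearMap.det (1 + y)) = frobenius K p 1 := by
    rw [frobenius_def, frobenius_def, h2, one_pow]
  exact frobenius_inj K p h3

theorem five_aux {K : Type u} [Field K] [Finite K] {V : Type v} [AddCommGroup V] [Module K V] [Module.Finite K V]
    {F : Type w} [Field F] [Finite F] [Algebra K F] (j : F →ₐ[K] R K V) (h2 : Module.finrank K F = 2)
    (h4 : Module.finrank K V = 4) (S : Subgroup (Equiv.Perm (R K V))) (hS : S ≤ RA K V)
    (hSE : ∀ f ∈ S, ∀ a : F, ∃ b : F, f (j a) = j b) : Five S := by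
  let _ : Module F V := Module.compHom V (j : F →+* R K V)
  have hsm : ∀ (a : F) (v : V), a • v = j a v := fun _ _ => rfl
  have : IsScalarTower K F V := ⟨fun k a v => by
    rw [hsm, hsm, map_smul]; rfl⟩
  have : Module.Finite F V := Module.Finite.of_restrictScalars_finite K F V
  have h5 : Module.finrank F V = 2 := by
    have h6 := Module.finrank_mul_finrank K F V
    rw [h2, h4] at h6
    omega
  have h6 : Module.finrank F V = Module.finrank F (F × F) := by
    rw [h5, Module.finrank_prod, Module.finrank_self]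
  let Ψ : V ≃ₗ[F] (F × F) := LinearEquiv.ofFinrankEq V (F × F) h6
  let Θ : Module.End K (F × F) ≃ₐ[K] R K V := ((Ψ.restrictScalars K).symm).conjAlgEquiv K
  have hΘ : ∀ a : F, Θ (sc K a) = j a := by
    intro a
    apply LinearMap.ext
    intro v
    show Ψ.symm (a • Ψ v) = j a v
    rw [map_smul, LinearEquiv.symm_apply_apply]
    rfl
  obtain ⟨D⟩ := exists_dat K F h2
  let ys : Fin 4 → Module.End K (F × F) := ![D.y1, D.y2, D.y3, D.y4]
  have hys : ∀ i, ys i * ys i = 0 := by
    intro i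
    fin_cases i
    · exact D.sq1
    · exact D.sq2
    · exact D.sq3
    · exact D.sq4
  have hu1 : ∀ i, (1 + ys i) * (1 - ys i) = 1 := fun i => by
    rw [mul_sub, mul_one, add_mul, one_mul, hys, add_zero, add_sub_cancel_right]
  have hu2 : ∀ i, (1 - ys i) * (1 + ys i) = 1 := fun i => by
    rw [mul_add, mul_one, sub_mul, one_mul, hys, sub_zero, sub_add_cancel]
  let x : Fin 4 → (R K V)ˣ := fun i =>
    ⟨Θ (1 + ys i), Θ (1 - ys i), by rw [← map_mul, hu1, map_one], by rw [← map_mul, hu2, map_one]⟩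
  refine ⟨x, fun i => ?_, fun f hf hfx => ?_⟩
  · show LinearMap.det (Θ (1 + ys i)) = 1
    rw [map_add, map_one]
    apply det_one_add
    rw [← map_mul, hys, map_zero]
  · let f' : Equiv.Perm (Module.End K (F × F)) := (Θ.toEquiv.trans f).trans Θ.symm.toEquiv
    have hf' : ∀ X, f' X = Θ.symm (f (Θ X)) := fun _ => rfl
    obtain ⟨hadd, hm⟩ := hS hf
    have h7 : f' = 1 := by
      refine D.model h2 f' ?_ ?_ ?_ ?_
      · intro X Y
        rw [hf', hf', hf', map_add, hadd, map_add]
      · rcases hm with hm | hm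
        · left; intro X Y
          rw [hf', hf', hf', map_mul, hm, map_mul]
        · right; intro X Y
          rw [hf', hf', hf', map_mul, hm, map_mul]
      · intro a
        obtain ⟨b, hb⟩ := hSE f hf a
        refine ⟨b, ?_⟩
        rw [hf', hΘ, hb, ← hΘ, AlgEquiv.symm_apply_apply]
      · intro y hy a
        obtain ⟨i, rfl⟩ : ∃ i, ys i = y := by
          rcases hy with rfl | rfl | rfl | rfl
          · exact ⟨0, rfl⟩
          · exact ⟨1, rfl⟩
          · exact ⟨2, rfl⟩
          · exact ⟨3, rfl⟩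
        obtain ⟨b, hb⟩ := hSE _ (hfx i) a
        refine ⟨b, ?_⟩
        apply Θ.injective
        have e : Θ ((1 - ys i) * sc K a * (1 + ys i)) = Θ (1 - ys i) * j a * Θ (1 + ys i) := by
          rw [map_mul, map_mul, hΘ]
        rw [hΘ, ← hb, map_mul, map_mul, hf', AlgEquiv.apply_symm_apply, e]
        rfl
    apply Equiv.ext
    intro X
    have h8 := congrArg (fun g : Equiv.Perm (Module.End K (F × F)) => g (Θ.symm X)) h7
    have h9 : Θ.symm (f (Θ (Θ.symm X))) = Θ.symm X := h8
    rw [AlgEquiv.apply_symm_apply] at h9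
    exact Θ.symm.injective h9

/-- **L-C3b**: `StmtC3` for `dim V = 4` and `[E : K] = 2` (no solvability needed). -/
theorem stmtC3_four (K : Type u) [Field K] [Finite K] (V : Type v) [AddCommGroup V] [Module K V] [Module.Finite K V]
    (S : Subgroup (Equiv.Perm (R K V))) (hS : S ≤ RA K V) (h4 : Module.finrank K V = 4)
    (E : Subalgebra K (R K V)) (hE : IsField E) (h2 : Module.finrank K E = 2)
    (hSE : ∀ f ∈ S, ∀ X ∈ E, f X ∈ E) : Five S := by
  have : Finite V := Module.finite_of_finite K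
  have : Finite (R K V) := Module.finite_of_finite K
  have : Finite E := inferInstance
  exact @five_aux K _ _ V _ _ _ E hE.toField _ E.algebra E.val h2 h4 S hS
    (fun f hf a => ⟨⟨f a, hSE f hf a a.2⟩, rfl⟩)

end Cfsg.Agent.H245.FC
end

-- part: H245/FC/Part
section
/-!
# S5764, L-C3b in the exact form of `H786.FC.Parts`
-/

set_option autoImplicit false

namespace Cfsg.Agent.H245.FC

universe u v

theorem stmtC3b : Cfsg.Agent.H786.FC.StmtC3b.{u, v} :=
  fun K _ _ V _ _ _ S hS _ _ E hE _ hES h4 => stmtC3_four K V S hS h4.1 E hE h4.2 hES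

end Cfsg.Agent.H245.FC
end

-- part: H567/FC/OneA
section
/-!
# S5764 [B-C3V]: `n = e`, arithmetic (helper567)
-/

set_option autoImplicit false
set_option linter.style.haveILetI false

namespace Cfsg.Agent.H567.FC

open Cfsg.Agent.H198.FC

universe u v w

section fld

variable {E : Type*} [Field E] [Finite E]

/-- the fixed field -/
def Fx (σ : E ≃+* E) : Subfield E where
  carrier := {a | σ a = a}
  one_mem' := map_one σ
  zero_mem' := map_zero σ
  mul_mem' := fun {a b} ha hb => by
    rw [Set.mem_setOf_eq] at ha hb ⊢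
    rw [map_mul, ha, hb]
  add_mem' := fun {a b} ha hb => by
    rw [Set.mem_setOf_eq] at ha hb ⊢
    rw [map_add, ha, hb]
  neg_mem' := fun {a} ha => by
    rw [Set.mem_setOf_eq] at ha ⊢
    rw [map_neg, ha]
  inv_mem' := fun a ha => by
    rw [Set.mem_setOf_eq] at ha ⊢
    rw [map_inv₀, ha]

theorem mem_Fx {σ : E ≃+* E} {a : E} : a ∈ Fx σ ↔ σ a = a := Iff.rfl

/-- a prime `r` dividing `|E^×|` but no `|F^×|` for proper subfields `F` -/
def Prim (E : Type*) [Field E] (r : ℕ) : Prop := r.Prime ∧ r ∣ Nat.card Eˣ ∧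
  ∀ F : Subfield E, F ≠ ⊤ → ∀ y ∈ F, y ^ r = 1 → y = 1

theorem exists_prim {p N : ℕ} (hp : p.Prime) (hE : Nat.card E = p ^ N) (hN : 2 < N) (h6 : ¬ (p = 2 ∧ N = 6)) :
    ∃ r, Prim E r := by
  haveI := Fact.mk hp
  obtain ⟨r, hr, hrd, hrn⟩ := Cfsg.Agent.S2904.result p N hp.one_lt (by omega) h6 (by
    rintro ⟨h, -⟩
    omega)
  refine ⟨r, hr, ?_, ?_⟩
  · rw [Nat.card_units, hE]
    exact hrd
  · intro F hF y hy hyr
    by_contra hy1
    have hy0 : y ≠ 0 := by
      rintro rfl
      rw [zero_pow hr.ne_zero] at hyr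
      exact zero_ne_one hyr
    haveI : Finite F := inferInstance
    haveI := Fintype.ofFinite F
    haveI := Fintype.ofFinite E
    haveI hcE : CharP E p := charP_of_card_eq_prime_pow (f := N) (by rw [← Nat.card_eq_fintype_card, hE])
    haveI hcF : CharP F p := (algebraMap F E).charP (algebraMap F E).injective p
    obtain ⟨j, -, hj⟩ := FiniteField.card F p
    have hcard : Nat.card E = Nat.card F ^ Module.finrank F E := Module.natCard_eq_pow_finrank
    have hm : Module.finrank F E ≠ 1 := by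
      intro h
      apply hF
      have h1 : (⊥ : Subalgebra F E) = ⊤ := Subalgebra.bot_eq_top_iff_finrank_eq_one.2 h
      rw [eq_top_iff]
      intro x _
      have h2 : x ∈ (⊥ : Subalgebra F E) := by rw [h1]; trivial
      obtain ⟨z, rfl⟩ := Algebra.mem_bot.1 h2
      exact z.2
    have hm0 : Module.finrank F E ≠ 0 := Module.finrank_pos.ne'
    have hjN : (j : ℕ) * Module.finrank F E = N := by
      rw [hE, Nat.card_eq_fintype_card, hj, ← pow_mul] at hcard
      exact (Nat.pow_right_injective hp.two_le hcard).symm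
    have hjlt : (j : ℕ) < N := by
      rw [← hjN]
      have h1 : 2 ≤ Module.finrank F E := by omega
      have h2 : 0 < (j : ℕ) := j.pos
      nlinarith
    apply hrn j j.pos hjlt
    haveI := Fact.mk hr
    have h1 : orderOf (Units.mk0 (⟨y, hy⟩ : F) (fun h => hy0 (congrArg Subtype.val h))) = r := by
      apply orderOf_eq_prime_iff.2
      refine ⟨?_, ?_⟩
      · apply Units.ext
        apply Subtype.ext
        simpa using hyr
      · intro h
        have h2 := congrArg (fun z : Fˣ => ((z : F) : E)) h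
        exact hy1 (by simpa using h2)
    have h2 := orderOf_dvd_natCard (Units.mk0 (⟨y, hy⟩ : F) (fun h => hy0 (congrArg Subtype.val h)))
    rw [h1, Nat.card_units, Nat.card_eq_fintype_card, hj] at h2
    exact h2

variable {K : Type*} [Field K] [Algebra K E]

theorem mem_range_of_fixed (hp : (Module.finrank K E).Prime) {ρ : E ≃ₐ[K] E} (hρ : ρ ≠ 1) {a : E} (ha : ρ a = a) :
    ∃ k : K, algebraMap K E k = a := by
  haveI := Fact.mk hp
  haveI : Finite K := Finite.of_injective _ (FaithfulSMul.algebraMap_injective K E)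
  have h1 : a ∈ (⊥ : IntermediateField K E) := by
    rw [IsGalois.mem_bot_iff_fixed]
    intro f
    have h2 : Nat.card (E ≃ₐ[K] E) = Module.finrank K E := IsGalois.card_aut_eq_finrank K E
    have h3 := mem_zpowers_of_prime_card h2 hρ (g' := f)
    obtain ⟨j, rfl⟩ := Subgroup.mem_zpowers_iff.1 h3
    have h4 : ρ ∈ MulAction.stabilizer (E ≃ₐ[K] E) a := ha
    exact (MulAction.stabilizer (E ≃ₐ[K] E) a).zpow_mem h4 j
  rw [IntermediateField.mem_bot] at h1
  exact h1

theorem alg_indep {c : (E ≃ₐ[K] E) → E} [Fintype (E ≃ₐ[K] E)] (h : ∀ y : E, ∑ ρ, c ρ * ρ y = 0) : ∀ ρ, c ρ = 0 := by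
  have h1 := linearIndependent_monoidHom E E
  have h2 : LinearIndependent E (fun ρ : E ≃ₐ[K] E => ((ρ : E →* E) : E → E)) :=
    h1.comp (fun ρ : E ≃ₐ[K] E => (ρ : E →* E)) (fun ρ ρ' h => AlgEquiv.ext fun a => DFunLike.congr_fun h a)
  rw [Fintype.linearIndependent_iff] at h2
  refine h2 c ?_
  funext y
  simp only [Finset.sum_apply, Pi.smul_apply, smul_eq_mul, Pi.zero_apply]
  exact h y

/-- the computation -/
theorem types_one (hp : (Module.finrank K E).Prime) (h3 : 3 ≤ Module.finrank K E) {α : K} (hα : α ≠ 0) {c : E}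
    (hc0 : c ≠ 0) (hc : Algebra.trace K E c = 0) {a a' : E} (ha : a ≠ 0) {s : E ≃ₐ[K] E}
    (h : ∀ y : E, a' * (s y + algebraMap K E (α * Algebra.trace K E (c * y))) =
      a * y + algebraMap K E (α * Algebra.trace K E (c * (a * y)))) : ∃ k : K, algebraMap K E k = a := by
  classical
  haveI : Finite K := Finite.of_injective _ (FaithfulSMul.algebraMap_injective K E)
  have hcard : Fintype.card (E ≃ₐ[K] E) = Module.finrank K E := by
    rw [← Nat.card_eq_fintype_card]
    exact IsGalois.card_aut_eq_finrank K E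
  set A : E := algebraMap K E α with hA
  have hA0 : A ≠ 0 := by
    rw [hA, Ne, FaithfulSMul.algebraMap_eq_zero_iff]
    exact hα
  have hAs : ∀ ρ : E ≃ₐ[K] E, ρ A = A := fun ρ => ρ.commutes α
  have key : ∀ ρ : E ≃ₐ[K] E, (if ρ = s then a' else 0) + A * ρ c * a' =
      (if ρ = 1 then a else 0) + A * ρ a * ρ c := by
    intro ρ
    rw [← sub_eq_zero]
    refine alg_indep (K := K) (c := fun ρ : E ≃ₐ[K] E => ((if ρ = s then a' else 0) + A * ρ c * a') -
      ((if ρ = 1 then a else 0) + A * ρ a * ρ c)) ?_ ρ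
    intro y
    have h1 := h y
    rw [(algebraMap K E).map_mul, (algebraMap K E).map_mul, trace_eq_sum_automorphisms, trace_eq_sum_automorphisms,
      ← hA, ← sub_eq_zero] at h1
    simp only [sub_mul, add_mul, ite_mul, zero_mul, Finset.sum_sub_distrib, Finset.sum_add_distrib,
      Finset.sum_ite_eq', Finset.mem_univ, if_true]
    rw [← h1, mul_add, Finset.mul_sum, Finset.mul_sum, Finset.mul_sum]
    congr 1
    · congr 1
      refine Finset.sum_congr rfl fun ρ _ => ?_
      rw [map_mul]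
      ring
    · congr 1
      refine Finset.sum_congr rfl fun ρ _ => ?_
      rw [map_mul, map_mul]
      ring
  have hc' : ∀ ρ : E ≃ₐ[K] E, ρ c ≠ 0 := fun ρ h => hc0 (by
    have := congrArg ρ.symm h
    simpa using this)
  have h1 : ∀ ρ : E ≃ₐ[K] E, ρ ≠ 1 → ρ ≠ s → ρ a = a' := by
    intro ρ hρ1 hρs
    have h2 := key ρ
    rw [if_neg hρ1, if_neg hρs, zero_add, zero_add] at h2
    have h4 : A * ρ c * a' = A * ρ c * ρ a := by rw [h2]; ring
    exact (mul_left_cancel₀ (mul_ne_zero hA0 (hc' ρ)) h4).symm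
  have h2 : ∀ ρ₁ ρ₂ : E ≃ₐ[K] E, ρ₁ ≠ ρ₂ → ρ₁ a = ρ₂ a → ∃ k : K, algebraMap K E k = a := by
    intro ρ₁ ρ₂ hne he
    refine mem_range_of_fixed hp (ρ := ρ₂⁻¹ * ρ₁) (fun h => hne (inv_mul_eq_one.1 h).symm) ?_
    show ρ₂.symm (ρ₁ a) = a
    rw [he, ρ₂.symm_apply_apply]
  by_cases hT : 1 < (Finset.univ \ {1, s} : Finset (E ≃ₐ[K] E)).card
  · obtain ⟨ρ₁, hρ₁, ρ₂, hρ₂, hne⟩ := Finset.one_lt_card.1 hT
    simp only [Finset.mem_sdiff, Finset.mem_univ, true_and, Finset.mem_insert, Finset.mem_singleton, not_or] at hρ₁ hρ₂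
    exact h2 ρ₁ ρ₂ hne (by rw [h1 ρ₁ hρ₁.1 hρ₁.2, h1 ρ₂ hρ₂.1 hρ₂.2])
  -- `n = 3`, `s ≠ 1`
  have h4 : (Finset.univ \ {1, s} : Finset (E ≃ₐ[K] E)).card = Module.finrank K E - ({1, s} : Finset (E ≃ₐ[K] E)).card := by
    rw [Finset.card_sdiff_of_subset (Finset.subset_univ _), Finset.card_univ, hcard]
  have hs1 : s ≠ 1 := by
    rintro rfl
    rw [Finset.pair_eq_singleton] at h4 hT
    rw [Finset.card_singleton] at h4
    omega
  have h5 : ({1, s} : Finset (E ≃ₐ[K] E)).card = 2 := Finset.card_pair hs1.symm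
  have hn3 : Module.finrank K E = 3 := by omega
  have hs3 : s ^ 3 = 1 := by
    have h6 := pow_card_eq_one' (x := s)
    rw [Nat.card_eq_fintype_card, hcard, hn3] at h6
    exact h6
  have hs3' : ∀ y, s (s (s y)) = y := by
    intro y
    have h6 := congrArg (fun f : E ≃ₐ[K] E => f y) hs3
    exact h6
  have hss : s * s ≠ 1 := by
    intro h6
    apply hs1
    have h7 : s ^ 3 = s * (s * s) := by rw [pow_succ, pow_two, mul_assoc]
    rw [hs3, h6, mul_one] at h7
    exact h7.symm
  have hss' : s * s ≠ s := by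
    intro h6
    apply hs1
    exact mul_left_cancel (h6.trans (mul_one s).symm)
  have ha' : a' = s (s a) := (h1 (s * s) hss hss').symm
  have eA := key 1
  rw [if_neg hs1.symm, if_pos rfl, zero_add] at eA
  have eA' : A * c * a' = a + A * a * c := eA
  have eB := key s
  rw [if_pos rfl, if_neg hs1, zero_add] at eB
  rw [ha'] at eA' eB
  -- apply `s` to `eA'`
  have eC := congrArg s eA'
  simp only [map_mul, map_add, hAs, hs3'] at eC
  -- `s(a)² = a s²(a)`
  have hsa : s a ≠ 0 := fun h => ha (by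
    have := congrArg s.symm h
    simpa using this)
  have hAc : A * s c ≠ 0 := mul_ne_zero hA0 (hc' s)
  have eD : A * s c * (s a * s a) = A * s c * (a * s (s a)) := by
    linear_combination (-s a) * eB + (-s (s a)) * eC
  have eD' : s a * s a = a * s (s a) := mul_left_cancel₀ hAc eD
  set r : E := s a / a with hr
  have hra : s a = r * a := by rw [hr, div_mul_cancel₀ _ ha]
  have hsr : s r = r := by
    rw [hr, map_div₀, div_eq_div_iff hsa ha, mul_comm, ← eD']
  have hssa : s (s a) = r * (r * a) := by rw [hra, map_mul, hsr, hra]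
  have hr3 : r * r * r = 1 := by
    have h6 := hs3' a
    rw [hssa, map_mul, map_mul, hsr, hra] at h6
    have h7 : r * r * r * a = 1 * a := by rw [one_mul]; linear_combination h6
    exact mul_right_cancel₀ ha h7
  obtain ⟨k, hk⟩ := mem_range_of_fixed hp hs1 hsr
  have eE : A * c * (r * r - 1) = 1 := by
    rw [hssa] at eA'
    have h6 : A * c * (r * r - 1) * a = 1 * a := by linear_combination eA'
    exact mul_right_cancel₀ ha h6
  have hr0 : r * r - 1 ≠ 0 := by
    intro h6
    rw [h6, mul_zero] at eE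
    exact zero_ne_one eE
  have hck : c = algebraMap K E ((α * (k * k - 1))⁻¹) := by
    rw [map_inv₀, map_mul, map_sub, map_mul, hk, map_one, ← hA]
    apply eq_inv_of_mul_eq_one_left
    linear_combination eE
  have h30 : (3 : K) = 0 := by
    rw [hck, Algebra.trace_algebraMap, hn3] at hc
    rw [nsmul_eq_mul] at hc
    rcases mul_eq_zero.1 hc with h6 | h6
    · exact_mod_cast h6
    · exfalso
      apply hc0
      rw [hck, h6, map_zero]
  exfalso
  have h30E : (3 : E) = 0 := by
    have h6 := congrArg (algebraMap K E) h30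
    rw [map_ofNat, map_zero] at h6
    exact h6
  have h6 : (r - 1) ^ 3 = 0 := by
    linear_combination hr3 + (r - r * r) * h30E
  have h7 : r - 1 = 0 := pow_eq_zero_iff (by norm_num) |>.1 h6
  have h8 : r = 1 := by linear_combination h7
  apply hr0
  rw [h8]
  ring

end fld

end Cfsg.Agent.H567.FC
end

-- part: H567/FC/OneB
section
/-!
# S5764 [B-C3V]: unitary, `n = e` odd prime (helper567)

`x` a unitary transvection, `v ∈ E` of order a primitive prime divisor of `|E| - 1`: `x`, `x v` suffice.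
-/

set_option autoImplicit false
set_option linter.style.haveILetI false

namespace Cfsg.Agent.H567.FC

open Cfsg.Agent.H198.FC

universe u v w

section

variable {K : Type u} [Field K] {V : Type v} [AddCommGroup V] [Module K V]

/-- `b` itself as a hermitian form over `K` -/
theorem exists_HmK [Finite K] [Module.Finite K V] [Nontrivial V] {b : Cl K V} (hU : b.IsU) : Nonempty (Hm b K) :=
  exists_Hm hU fun a => ⟨b.τ a, fun v w => by rw [b.smul_left, b.smul_right, b.invol]⟩

/-- a unitary transvection -/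
theorem exists_transv [Finite K] [Module.Finite K V] {b : Cl K V} (hU : b.IsU) (h2 : 2 ≤ Module.finrank K V) :
    ∃ (u : V) (α : K) (x : (R K V)ˣ), u ≠ 0 ∧ b.B u u = 0 ∧ α ≠ 0 ∧ LinearMap.det ((x : (R K V)ˣ) : R K V) = 1 ∧
      b.Isom x ∧ ∀ w, (x : R K V) w = w + (α * b.B w u) • u := by
  haveI : Nontrivial V := Module.nontrivial_of_finrank_pos (R := K) (by omega)
  obtain ⟨H⟩ := exists_HmK hU
  have hHB : ∀ v w, H.h v w = b.B v w := fun v w => by
    rw [H.tr, Algebra.trace_self_apply]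
  obtain ⟨α', hα'⟩ := hU.1
  have hJ : ∃ a, H.J a ≠ a := ⟨α', fun h => hα' (by
    have h1 := H.J_alg α'
    simp only [Algebra.algebraMap_self, RingHom.id_apply] at h1
    rw [← h1, h])⟩
  obtain ⟨l, ⟨P⟩⟩ := exists_HB H hJ h2
  have hu0 : P.e 0 ≠ 0 := by
    intro h
    have h1 := P.ef 0 0
    rw [h, H.zero_left, if_pos rfl] at h1
    exact zero_ne_one h1
  have huu : b.B (P.e 0) (P.e 0) = 0 := by rw [← hHB, P.ee]
  have hid : ∀ k : K, (RingEquiv.refl K) (algebraMap K K k) = algebraMap K K k := fun k => rfl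
  obtain ⟨x, xd, xi, xx⟩ := exists_x H (κ := Unit) (fun _ => α' • P.e 0) (fun _ => P.e 0) hU hid
    (fun i j => by rw [H.smul_left, H.smul_right, P.ee, mul_zero, mul_zero])
    (fun i j => by rw [H.smul_left, P.ee, mul_zero]) (fun i j => P.ee _ _)
  refine ⟨P.e 0, α' - b.τ α', x, hu0, huu, sub_ne_zero.2 (Ne.symm hα'), xd, xi, fun w => ?_⟩
  have hrs : ∀ y : K, (RingEquiv.refl K).symm y = y := fun y => rfl
  rw [xx, TT_apply, TT_apply]
  simp only [Finset.univ_unique, Finset.sum_singleton, RingEquiv.refl_apply, hrs, H.smul_right]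
  have hJα : H.J α' = b.τ α' := by
    have h1 := H.J_alg α'
    simpa using h1
  rw [hHB, hJα, smul_smul, add_sub_assoc, ← sub_smul]
  congr 2
  ring

end

section

variable {K : Type u} [Field K] [Finite K] {V : Type v} [AddCommGroup V] [Module K V] [Module.Finite K V]
  {E : Type w} [Field E] [Finite E] [Algebra K E] [Module E V] [IsScalarTower K E V] {b : Cl K V}

/-- homotheties of `V` by elements of `E^×` -/
noncomputable def hE (E : Type w) [Field E] [Algebra K E] [Module E V] [IsScalarTower K E V] (a : Eˣ) : (R K V)ˣ :=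
  Units.map (Algebra.lsmul K K V : E →ₐ[K] R K V).toRingHom.toMonoidHom a

omit [Finite K] [Module.Finite K V] [Finite E] in
theorem hE_apply (a : Eˣ) (w : V) : ((hE E a : (R K V)ˣ) : R K V) w = (a : E) • w := rfl

omit [Finite K] [Module.Finite K V] [Finite E] in
theorem hE_inv_apply (a : Eˣ) (w : V) : (((hE E a)⁻¹ : (R K V)ˣ) : R K V) w = ((a⁻¹ : Eˣ) : E) • w := by
  rw [hE, ← map_inv]
  rfl

/-- (1) -/
theorem one_step [Nontrivial V] (H : Hm b E) (h1 : Module.finrank E V = 1) (hp : (Module.finrank K E).Prime)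
    (h3 : 3 ≤ Module.finrank K E) {u : V} {α : K} {x : (R K V)ˣ} (hu : u ≠ 0) (huu : b.B u u = 0) (hα : α ≠ 0)
    (hx : ∀ w, (x : R K V) w = w + (α * b.B w u) • u) (a : Eˣ)
    (ha : Nrm E (cj K V x * cj K V (hE E a) * (cj K V x)⁻¹)) : ∃ k : K, algebraMap K E k = a := by
  have hxi : ∀ u, (x : R K V) (((x⁻¹ : (R K V)ˣ) : R K V) u) = u := by
    intro u
    have h := congrArg (fun X : R K V => X u) (Units.mul_inv x)
    exact h
  have hix : ∀ u, ((x⁻¹ : (R K V)ˣ) : R K V) ((x : R K V) u) = u := by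
    intro u
    have h := congrArg (fun X : R K V => X u) (Units.inv_mul x)
    exact h
  set z : (R K V)ˣ := x * hE E a * x⁻¹ with hz
  have hzf : cj K V x * cj K V (hE E a) * (cj K V x)⁻¹ = cj K V z := by
    rw [hz, map_mul, map_mul, map_inv]
  rw [hzf] at ha
  have hzz : ∀ w, ((z⁻¹ : (R K V)ˣ) : R K V) ((z : R K V) w) = w := by
    intro w
    have h := congrArg (fun X : R K V => X w) (Units.inv_mul z)
    exact h
  have hzz' : ∀ w, (z : R K V) (((z⁻¹ : (R K V)ˣ) : R K V) w) = w := by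
    intro w
    have h := congrArg (fun X : R K V => X w) (Units.mul_inv z)
    exact h
  obtain ⟨σ, hσ⟩ := semilin ha (g := fun w => (z : R K V) w) (fun w => ⟨_, hzz' w⟩)
    (fun v v' => map_add _ v v') (fun X w => by
      show (z : R K V) (X (((z⁻¹ : (R K V)ˣ) : R K V) ((z : R K V) w))) = _
      rw [hzz])
  -- coordinates
  have hsurj : ∀ w : V, ∃ y : E, w = y • u := by
    intro w
    have h4 := (finrank_eq_one_iff_of_nonzero' (K := E) u hu).1 h1 w
    obtain ⟨y, hy⟩ := h4
    exact ⟨y, hy.symm⟩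
  have hinj : ∀ {y y' : E}, y • u = y' • u → y = y' := by
    intro y y' h
    rw [← sub_eq_zero, ← sub_smul, smul_eq_zero] at h
    rcases h with h | h
    · exact sub_eq_zero.1 h
    · exact absurd h hu
  set c : E := H.h u u with hc
  have hB : ∀ y : E, b.B (y • u) u = Algebra.trace K E (c * y) := by
    intro y
    rw [H.tr, H.smul_left, mul_comm]
  have hc0 : c ≠ 0 := by
    intro h
    apply hu
    apply H.nondeg
    intro w
    obtain ⟨y, rfl⟩ := hsurj w
    rw [H.smul_right, ← hc, h, mul_zero]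
  have htc : Algebra.trace K E c = 0 := by
    rw [← huu, H.tr]
  have hσK : ∀ k : K, σ (algebraMap K E k) = algebraMap K E k := by
    intro k
    have h4 := hσ (algebraMap K E k) u
    simp only [algebraMap_smul, map_smul] at h4
    have h5 : (z : R K V) u ≠ 0 := by
      intro h6
      apply hu
      have h7 := hzz u
      rw [h6, map_zero] at h7
      exact h7.symm
    rw [← algebraMap_smul E k ((z : R K V) u), ← sub_eq_zero, ← sub_smul, smul_eq_zero] at h4
    rcases h4 with h4 | h4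
    · exact (sub_eq_zero.1 h4).symm
    · exact absurd h4 h5
  let s : E ≃ₐ[K] E := AlgEquiv.ofRingEquiv (f := σ) hσK
  obtain ⟨a', ha'⟩ := hsurj ((z : R K V) u)
  refine types_one hp h3 hα hc0 htc (a' := a') a.ne_zero (s := s) fun y => hinj ?_
  have h4 : (z : R K V) ((x : R K V) (y • u)) = (x : R K V) ((a : E) • y • u) := by
    rw [← hE_apply (K := K), hz]
    show (x : R K V) (((hE E a : (R K V)ˣ) : R K V) (((x⁻¹ : (R K V)ˣ) : R K V) ((x : R K V) (y • u)))) = _
    rw [hix]
  have hxy : ∀ y : E, (x : R K V) (y • u) = (y + algebraMap K E (α * Algebra.trace K E (c * y))) • u := by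
    intro y
    rw [hx, hB, add_smul, algebraMap_smul]
  rw [hxy, ← mul_smul, hxy] at h4
  have h5 := hσ (y + algebraMap K E (α * Algebra.trace K E (c * y))) u
  rw [h5, ha', map_add, hσK, ← mul_smul] at h4
  rw [mul_comm a']
  exact h4

theorem five_one [Nontrivial V] (hU : b.IsU) (hadj : ∀ a : E, ∃ a' : E, ∀ v w, b.B (a • v) w = b.B v (a' • w))
    (h1 : Module.finrank E V = 1) (hp : (Module.finrank K E).Prime) (h3 : 3 ≤ Module.finrank K E) {r : ℕ}
    (hr : Prim E r) (S : Subgroup (Equiv.Perm (R K V))) (hS : S ≤ RP K V) (hN : ∀ f ∈ S, Nrm E f) : FiveB b S := by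
  obtain ⟨H⟩ := exists_Hm (E := E) hU hadj
  have hn : Module.finrank K E * Module.finrank E V = Module.finrank K V := Module.finrank_mul_finrank K E V
  rw [h1, mul_one] at hn
  obtain ⟨u, α, x, hu, huu, hα, xd, xi, hx⟩ := exists_transv hU (by omega)
  obtain ⟨hrp, hrd, hrs⟩ := hr
  haveI := Fact.mk hrp
  haveI := Fintype.ofFinite Eˣ
  obtain ⟨v, hv⟩ := exists_prime_orderOf_dvd_card' (G := Eˣ) r hrd
  have hvr : v ^ r = 1 := by rw [← hv]; exact pow_orderOf_eq_one v
  have hvr' : (v : E) ^ r = 1 := by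
    have := congrArg Units.val hvr
    simpa using this
  have hv1 : (v : E) ≠ 1 := by
    intro h
    have h4 : v = 1 := Units.ext h
    rw [h4, orderOf_one] at hv
    exact hrp.one_lt.ne hv
  -- `v J(v) = 1`
  obtain ⟨a₀, ha₀⟩ := hU.1
  have hJv : H.J v * v = 1 := by
    refine hrs (Fx H.J) ?_ _ ?_ ?_
    · intro h
      apply ha₀
      have h4 : algebraMap K E a₀ ∈ Fx H.J := by rw [h]; trivial
      rw [mem_Fx, H.J_alg] at h4
      exact FaithfulSMul.algebraMap_injective K E h4
    · rw [mem_Fx, map_mul, H.J_invol, mul_comm]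
    · rw [mul_pow, ← map_pow, hvr', map_one, one_mul]
  -- the range of `K`
  have hKtop : (algebraMap K E).fieldRange ≠ ⊤ := by
    intro h
    have h4 : (⊥ : Subalgebra K E) = ⊤ := by
      rw [eq_top_iff]
      intro y _
      rw [Algebra.mem_bot]
      have h5 : y ∈ (algebraMap K E).fieldRange := by rw [h]; trivial
      exact h5
    rw [Subalgebra.bot_eq_top_iff_finrank_eq_one] at h4
    omega
  have hKr : ∀ k : K, k ^ r = 1 → k = 1 := by
    intro k hk
    apply FaithfulSMul.algebraMap_injective K E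
    rw [map_one]
    refine hrs _ hKtop _ ⟨k, rfl⟩ ?_
    rw [← map_pow, hk, map_one]
  have hdet : LinearMap.det ((hE E v : (R K V)ˣ) : R K V) = 1 := by
    apply hKr
    rw [← map_pow, ← Units.val_pow_eq_pow_val]
    have h4 : (hE E v : (R K V)ˣ) ^ r = 1 := by
      rw [hE, ← map_pow, hvr, map_one]
    rw [h4, Units.val_one, map_one]
  have hiso : b.Isom ((hE E v : (R K V)ˣ) : R K V) := by
    intro w w'
    rw [hE_apply, hE_apply, H.tr, H.tr, H.smul_left, H.smul_right]
    have h4 : (v : E) * (H.J v * H.h w w') = (H.J v * v) * H.h w w' := by ring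
    rw [h4, hJv, one_mul]
  refine ⟨![x, x * hE E v, 1, 1], ?_, ?_, ?_⟩
  · intro i
    fin_cases i
    · exact xd
    · show LinearMap.det ((x * hE E v : (R K V)ˣ) : R K V) = 1
      rw [Units.val_mul, map_mul, xd, hdet, one_mul]
    · show LinearMap.det ((1 : (R K V)ˣ) : R K V) = 1
      rw [Units.val_one, map_one]
    · show LinearMap.det ((1 : (R K V)ˣ) : R K V) = 1
      rw [Units.val_one, map_one]
  · intro i
    fin_cases i
    · exact xi
    · intro w w'
      show b.B ((x : R K V) (((hE E v : (R K V)ˣ) : R K V) w)) ((x : R K V) (((hE E v : (R K V)ˣ) : R K V) w')) = _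
      rw [xi, hiso]
    · intro w w'; rfl
    · intro w w'; rfl
  · intro f hf hi
    have hi0 : cj K V x * f * (cj K V x)⁻¹ ∈ S := hi 0
    have hi1 : cj K V (x * hE E v) * f * (cj K V (x * hE E v))⁻¹ ∈ S := hi 1
    have hnK : 1 ≤ Module.finrank K V := Module.finrank_pos
    obtain ⟨g, ⟨hga, -⟩, hfg⟩ := Cfsg.Agent.H277.FC.stmtSN.{u, v} K V hnK f (hS hf)
    obtain ⟨σ, hσ⟩ := semilin (hN f hf) g.surjective hga hfg
    -- `f (a) = σ a`
    have hfa : ∀ a : Eˣ, f * cj K V (hE E a) * f⁻¹ = cj K V (hE E (Units.map σ.toRingHom.toMonoidHom a)) := by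
      intro a
      have h4 : f * cj K V (hE E a) = cj K V (hE E (Units.map σ.toRingHom.toMonoidHom a)) * f := by
        apply Equiv.ext
        intro X
        apply LinearMap.ext
        intro w
        obtain ⟨w, rfl⟩ := g.surjective w
        show f (((hE E a : (R K V)ˣ) : R K V) * X * (((hE E a)⁻¹ : (R K V)ˣ) : R K V)) (g w) = _
        rw [hfg]
        show g (((hE E a : (R K V)ˣ) : R K V) (X ((((hE E a)⁻¹ : (R K V)ˣ) : R K V) w))) = _
        rw [hE_inv_apply, hE_apply, hσ]
        show _ = ((hE E (Units.map σ.toRingHom.toMonoidHom a) : (R K V)ˣ) : R K V)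
          (f X ((((hE E (Units.map σ.toRingHom.toMonoidHom a))⁻¹ : (R K V)ˣ) : R K V) (g w)))
        rw [hE_inv_apply, hE_apply, ← map_inv]
        show σ a • g (X (((a⁻¹ : Eˣ) : E) • w)) = σ a • f X (σ ((a⁻¹ : Eˣ) : E) • g w)
        rw [← hσ ((a⁻¹ : Eˣ) : E) w, hfg]
      rw [h4, mul_inv_cancel_right]
    -- the commutator
    set c : Eˣ := v * (Units.map σ.toRingHom.toMonoidHom v)⁻¹ with hcdef
    have hcS : cj K V x * cj K V (hE E c) * (cj K V x)⁻¹ ∈ S := by
      have h4 := S.mul_mem hi1 (S.inv_mem hi0)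
      have h5 : cj K V (x * hE E v) * f * (cj K V (x * hE E v))⁻¹ * (cj K V x * f * (cj K V x)⁻¹)⁻¹ =
          cj K V x * (cj K V (hE E v) * (f * (cj K V (hE E v)) * f⁻¹)⁻¹) * (cj K V x)⁻¹ := by
        rw [map_mul]
        group
      rw [h5, hfa, ← map_inv, ← map_mul] at h4
      have h6 : hE E v * (hE E (Units.map σ.toRingHom.toMonoidHom v) : (R K V)ˣ)⁻¹ = hE E c := by
        rw [hcdef, hE, hE, hE, ← map_inv, ← map_mul]
      rw [h6] at h4
      exact h4
    obtain ⟨k, hk⟩ := one_step H h1 hp h3 hu huu hα hx c (hN _ hcS)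
    have hkr : k ^ r = 1 := by
      apply FaithfulSMul.algebraMap_injective K E
      rw [map_pow, hk, map_one, ← Units.val_pow_eq_pow_val, hcdef, mul_pow, inv_pow, ← map_pow, hvr, map_one, inv_one,
        mul_one, Units.val_one]
    have hk1 := hKr k hkr
    rw [hk1, map_one] at hk
    have hσv : σ v = v := by
      have h4 : c = 1 := Units.ext hk.symm
      rw [hcdef, mul_inv_eq_one] at h4
      have h5 := congrArg Units.val h4
      exact h5.symm
    have hσ1 : ∀ a, σ a = a := by
      have h4 : Fx σ = ⊤ := by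
        by_contra h
        exact hv1 (hrs (Fx σ) h v hσv hvr')
      intro a
      have h5 : a ∈ Fx σ := by rw [h4]; trivial
      exact h5
    -- `g` is a homothety of `E`
    obtain ⟨a, ha⟩ : ∃ a : E, g u = a • u := by
      have h4 := (finrank_eq_one_iff_of_nonzero' (K := E) u hu).1 h1 (g u)
      obtain ⟨y, hy⟩ := h4
      exact ⟨y, hy.symm⟩
    have g0 : g 0 = 0 := by simpa using hga 0 0
    have ha0 : a ≠ 0 := by
      rintro rfl
      rw [zero_smul, ← g0] at ha
      exact hu (g.injective ha)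
    have hga' : ∀ w, g w = a • w := by
      intro w
      obtain ⟨y, hy⟩ := (finrank_eq_one_iff_of_nonzero' (K := E) u hu).1 h1 w
      rw [← hy, hσ, hσ1, ha, smul_comm]
    have hfcj : f = cj K V (hE E (Units.mk0 a ha0)) := by
      apply Equiv.ext
      intro X
      apply LinearMap.ext
      intro w
      obtain ⟨w, rfl⟩ := g.surjective w
      rw [hfg]
      show _ = ((hE E (Units.mk0 a ha0) : (R K V)ˣ) : R K V)
          (X ((((hE E (Units.mk0 a ha0))⁻¹ : (R K V)ˣ) : R K V) (g w)))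
      rw [hE_inv_apply, hE_apply, hga', hga']
      show a • X w = a • X (((Units.mk0 a ha0)⁻¹ : Eˣ) • a • w)
      congr 2
      rw [← smul_assoc]
      show w = ((((Units.mk0 a ha0)⁻¹ : Eˣ) : E) * a) • w
      simp [ha0]
    have h6 := hN _ hi0
    rw [hfcj] at h6
    obtain ⟨k', hk'⟩ := one_step H h1 hp h3 hu huu hα hx _ h6
    apply Equiv.ext
    intro X
    apply LinearMap.ext
    intro w
    obtain ⟨w, rfl⟩ := g.surjective w
    have hk'' : algebraMap K E k' = a := hk'
    have hk0 : k' ≠ 0 := by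
      rintro rfl
      rw [map_zero] at hk''
      exact ha0 hk''.symm
    show f X (g w) = X (g w)
    rw [hfg, hga', hga', ← hk'', algebraMap_smul, algebraMap_smul, map_smul]

/-- **[B-C3V]** -/
theorem bc3V : Cfsg.Agent.H786.FC.StmtBC3On.{u, v} true true fun n e => n = e := by
  intro K _ _ V _ _ _ b hk hbig S hS _ E hP _ hE' hp hadj hnorm
  have hU : b.IsU := hk.1 rfl
  have hP' : Module.finrank K V = Module.finrank K E := hP
  letI : Field E := hE'.toField
  haveI : Finite (R K V) := Module.finite_of_finite K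
  haveI : Finite E := inferInstance
  have h1 : Module.finrank K E * Module.finrank E V = Module.finrank K V := Module.finrank_mul_finrank K E V
  have hbig' : 3 ≤ Module.finrank K V ∧ (Module.finrank K V = 3 → Nat.card K ≠ 4) := by
    rcases hbig with h | h
    · exact h.2
    · exact absurd h.1 (Cfsg.Agent.H786.FC.not_isSp_of_isU hU)
  haveI : Nontrivial V := Module.nontrivial_of_finrank_pos (R := K) (by omega)
  have hEV : Module.finrank E V = 1 := by
    rw [hP'] at h1
    have h2 : 0 < Module.finrank K E := hp.pos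
    exact Nat.eq_of_mul_eq_mul_left h2 (by rw [h1, mul_one])
  -- the primitive prime
  obtain ⟨p, hpc⟩ := CharP.exists K
  have hpp : p.Prime := CharP.char_is_prime K p
  haveI := Fact.mk hpp
  haveI := Fintype.ofFinite K
  obtain ⟨k, -, hk'⟩ := FiniteField.card K p
  have hcE : Nat.card E = p ^ ((k : ℕ) * Module.finrank K E) := by
    rw [Module.natCard_eq_pow_finrank (K := K) (V := E), Nat.card_eq_fintype_card, hk', ← pow_mul]
  have hn3 : 3 ≤ Module.finrank K E := by omega
  have hkp : 0 < (k : ℕ) := k.pos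
  obtain ⟨r, hr⟩ := exists_prim (E := E) hpp hcE (by nlinarith) (by
    rintro ⟨hp2, h6⟩
    have hdvd : Module.finrank K E ∣ 6 := ⟨k, by rw [mul_comm]; exact h6.symm⟩
    have hle := Nat.le_of_dvd (by norm_num) hdvd
    have hn : Module.finrank K E = 3 := by
      generalize Module.finrank K E = n at *
      interval_cases n <;> first | rfl | (exfalso; revert hp; decide) | (exfalso; revert hdvd; decide)
    rw [hn] at h6
    have hk2 : (k : ℕ) = 2 := by omega
    apply hbig'.2 (by rw [hP', hn])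
    rw [Nat.card_eq_fintype_card, hk', hp2, hk2]
    norm_num)
  refine five_one (E := E) hU ?_ hEV hp hn3 hr S (fun f hf => (hS hf).1) ?_
  · intro a
    obtain ⟨Y, hY, hY'⟩ := hadj a a.2
    exact ⟨⟨Y, hY⟩, hY'⟩
  · intro f hf a
    have h3 := hnorm f hf a a.2
    refine ⟨⟨_, h3⟩, ?_⟩
    have h4 : ∀ c : E, Algebra.lsmul K K V c = (c : R K V) := fun c => rfl
    rw [h4, h4]

/-- **[B-C3U]** in the form of `H786.FC.Parts` -/
theorem bc3U' : Cfsg.Agent.H786.FC.StmtBC3On.{u, v} true true fun n e => 2 * e ≤ n := by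
  intro K _ _ V _ _ _ b hk hbig S hS hsol E hP _ hE' hp hadj hnorm
  refine bc3U K V b hbig S hS hsol E hE' hp hadj hnorm (hk.1 rfl) ?_
  have hP' : 2 * Module.finrank K E ≤ Module.finrank K V := hP
  have := hp.pos
  omega

end

end Cfsg.Agent.H567.FC
end
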